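import Groth.Agent.TwoOpen.Basic
import Groth.Agent.QCoh.SubCompare
import Groth.Prelude.Def_ClSub2
import Mathlib.AlgebraicGeometry.FunctionField

/-! Vanishing of `H¹` of the structure sheaf of an integral separated scheme, from the splitting of
Čech cocycles with values in the function field. -/

noncomputable section

set_option linter.style.haveILetI false
set_option linter.unusedSectionVars false
set_option backward.isDefEq.respectTransparency false
set_option backward.isDefEq.respectTransparency.types false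

universe u

open CategoryTheory CategoryTheory.Limits AlgebraicGeometry TopologicalSpace Opposite
open Groth.Agent.PnCoh.Finite (mapLin)

namespace Groth.Agent.RatSingReg

open Groth.Agent

variable {X : Scheme.{u}} [IsIntegral X]

/-- A rational function is regular on an open. -/
def Reg (U : X.Opens) (z : X.functionField) : Prop :=
  ∃ (h : Nonempty ↥U.toScheme) (s : Γ(X, U)), X.germToFunctionField U s = z

theorem germ_res {U V : X.Opens} [Nonempty ↥U.toScheme] [Nonempty ↥V.toScheme] (h : V ≤ U) (s : Γ(X, U)) :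
    X.germToFunctionField V (X.presheaf.map (homOfLE h).op s) = X.germToFunctionField U s :=
  TopCat.Presheaf.germ_res_apply _ _ _ _ _

theorem nonempty_inf (U V : X.Opens) [hU : Nonempty ↥U.toScheme] [hV : Nonempty ↥V.toScheme] :
    Nonempty ↥(U ⊓ V).toScheme := by
  obtain ⟨⟨x, hx⟩⟩ := hU
  obtain ⟨⟨y, hy⟩⟩ := hV
  obtain ⟨z, hz⟩ := nonempty_preirreducible_inter U.2 V.2 ⟨x, hx⟩ ⟨y, hy⟩
  exact ⟨⟨z, hz⟩⟩

/-- If every cocycle of rational functions on a finite affine covering splits, then `H¹(X, O) = 0`. -/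
theorem subsingleton_h1_of_split (A : Type u) [CommRing A] [X.Over (Spec (CommRingCat.of A))] [X.IsSeparated]
    {ι : Type u} [Finite ι] (U : ι → X.Opens) (hU : ∀ i, IsAffineOpen (U i)) [hne : ∀ i, Nonempty ↥(U i).toScheme]
    (hcov : ∀ x : X, ∃ i, x ∈ U i)
    (hsplit : ∀ e : ι → ι → X.functionField, (∀ i j, Reg (U i ⊓ U j) (e i j)) →
      (∀ i j k, e i k = e i j + e j k) →
      ∃ g : ι → X.functionField, (∀ i, Reg (U i) (g i)) ∧ ∀ i j, e i j = g i - g j) :
    Subsingleton (Coh.HH X (Coh.structureModule X) 1) := by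
  classical
  haveI : ∀ i, IsAffine (U i).toScheme := hU
  let Y : Scheme.{u} := ∐ fun i => (U i).toScheme
  let p : Y ⟶ X := Sigma.desc fun i => (U i).ι
  haveI : IsAffineHom (p ≫ terminal.from X) := isAffineHom_of_isAffine _
  haveI : IsAffineHom p := IsAffineHom.of_comp p (terminal.from X)
  let J : X.Modules := (Scheme.Modules.pushforward p).obj (Coh.structureModule Y)
  let η : Coh.structureModule X ⟶ J := ClSub.unitToPush p
  have hJ : Coh.IsQCoh J := QCoh.isQCoh_pushforward p (PnCoh.isQCoh_structureModule Y)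
  haveI hJ1 : Subsingleton (Coh.HH X J 1) := by
    obtain ⟨e⟩ := QCoh.HH_push_of_isAffineHom p (PnCoh.isQCoh_structureModule Y) 1
    haveI := QCoh.subsingleton_HH_of_isAffine (PnCoh.isQCoh_structureModule Y) 0
    exact e.symm.toEquiv.subsingleton
  have hinj : ∀ W : X.Opens, Function.Injective (p.app W) := by
    intro W s t hst
    refine TopCat.Sheaf.eq_of_locally_eq' X.sheaf (fun i => U i ⊓ W) W (fun i => homOfLE inf_le_right)
      (fun x hx => ?_) _ _ fun i => ?_
    · obtain ⟨i, hi⟩ := hcov x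
      exact Opens.mem_iSup.2 ⟨i, hi, hx⟩
    · have h1 : ((U i).ι).app W s = ((U i).ι).app W t := by
        have h2 := congrArg ((Sigma.ι (fun i => (U i).toScheme) i).app (p ⁻¹ᵁ W)) hst
        rw [← CommRingCat.comp_apply, ← CommRingCat.comp_apply, ← Scheme.Hom.comp_app] at h2
        rwa [Scheme.Hom.congr_app (Sigma.ι_desc (fun i => (U i).ι) i) W, CommRingCat.comp_apply,
          CommRingCat.comp_apply, ((ConcreteCategory.bijective_of_isIso _).1).eq_iff] at h2
      simp only [Scheme.Opens.ι_app] at h1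
      have hle : U i ⊓ W ≤ (U i).ι ''ᵁ (U i).ι ⁻¹ᵁ W := by
        rw [Scheme.Hom.image_preimage_eq_opensRange_inf, Scheme.Opens.opensRange_ι]
      have h3 := congrArg (X.presheaf.map (homOfLE hle).op) h1
      have hmm : ∀ {V₁ V₂ V₃ : X.Opens} (h₁ : V₂ ≤ V₁) (h₂ : V₃ ≤ V₂) (r : Γ(X, V₁)),
          X.presheaf.map (homOfLE h₂).op (X.presheaf.map (homOfLE h₁).op r) = X.presheaf.map (homOfLE (h₂.trans h₁)).op r :=
        fun h₁ h₂ r => (congr(($(X.presheaf.map_comp (homOfLE h₁).op (homOfLE h₂).op)) r)).symm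
      exact (hmm _ hle s).symm.trans (h3.trans (hmm _ hle t))
  haveI : Mono η := Preadditive.mono_of_cancel_zero _ fun {P} g hg => Scheme.Modules.hom_ext _ _ fun W => by
    ext z
    refine hinj W ?_
    refine Eq.trans ?_ (map_zero (p.app W).hom).symm
    exact congr(($hg).app W z)
  let Q := cokernel η
  have hQ : Coh.IsQCoh Q := QCoh.isQCoh_cokernel (PnCoh.isQCoh_structureModule X) hJ η
  have hS := CurveSlope.shortExact_cokernel_of_mono η
  have hsurj : Function.Surjective ((cokernel.π η).app ⊤) := by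
    intro q
    have hw : ∀ i, ∃ w : Γ(J, U i), (cokernel.π η).app (U i) w = Q.presheaf.map (homOfLE (le_top : U i ≤ ⊤)).op q :=
      fun i => QCoh.app_surjective_of_epi hJ hQ (cokernel.π η) (hU i) _
    choose w hw using hw
    haveI : ∀ i j, Nonempty ↥(U i ⊓ U j).toScheme := fun i j => nonempty_inf (U i) (U j)
    let rJ : ∀ {V W : X.Opens} (_ : W ≤ V), Γ(J, V) →+ Γ(J, W) := fun {V W} h => (J.presheaf.map (homOfLE h).op).hom
    have hrr : ∀ {V W W' : X.Opens} (h : W ≤ V) (h' : W' ≤ W) (z : Γ(J, V)), rJ h' (rJ h z) = rJ (h'.trans h) z :=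
      fun h h' z => (congr(($(J.presheaf.map_comp (homOfLE h).op (homOfLE h').op)) z)).symm
    have hηr : ∀ {V W : X.Opens} (h : W ≤ V) (s : Γ(X, V)),
        rJ h (η.app V s) = η.app W (X.presheaf.map (homOfLE h).op s) := fun {V W} h s =>
      (QCoh.map_app_comm η (homOfLE h) s).symm
    have hdiff : ∀ i j, ∃ s : Γ(X, U i ⊓ U j), η.app (U i ⊓ U j) s =
        rJ inf_le_left (w i) - rJ inf_le_right (w j) := by
      intro i j
      refine (QCoh.mem_range_iff_cokernel η (U i ⊓ U j) _).1 ?_
      show (cokernel.π η).app (U i ⊓ U j) (J.presheaf.map (homOfLE inf_le_left).op (w i) -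
        J.presheaf.map (homOfLE inf_le_right).op (w j)) = 0
      rw [map_sub, QCoh.map_app_comm (cokernel.π η), QCoh.map_app_comm (cokernel.π η), hw, hw,
        ← ConcreteCategory.comp_apply, ← Functor.map_comp, ← ConcreteCategory.comp_apply, ← Functor.map_comp]
      exact sub_self _
    choose s hs using hdiff
    have hηinj : ∀ W : X.Opens, Function.Injective (η.app W) := hinj
    obtain ⟨g, hg, heq⟩ := hsplit (fun i j => X.germToFunctionField (U i ⊓ U j) (s i j))
      (fun i j => ⟨inferInstance, s i j, rfl⟩) (fun i j k => by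
        haveI := nonempty_inf (U i ⊓ U j) (U k)
        have hij : U i ⊓ U j ⊓ U k ≤ U i ⊓ U j := inf_le_left
        have hjk : U i ⊓ U j ⊓ U k ≤ U j ⊓ U k := inf_le_inf_right _ inf_le_right
        have hik : U i ⊓ U j ⊓ U k ≤ U i ⊓ U k := inf_le_inf_right _ inf_le_left
        rw [← germ_res hij, ← germ_res hjk, ← germ_res hik, ← map_add]
        congr 1
        refine hηinj _ ?_
        rw [map_add]
        erw [← hηr hij, ← hηr hjk, ← hηr hik, hs, hs, hs]
        rw [map_sub, map_sub, map_sub, hrr, hrr, hrr, hrr, hrr, hrr]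
        abel)
    choose hn t ht using hg
    obtain ⟨z, hz, -⟩ := TopCat.Sheaf.existsUnique_gluing' ⟨J.presheaf, J.isSheaf⟩ U ⊤ (fun i => homOfLE le_top)
      (fun x _ => Opens.mem_iSup.2 (hcov x)) (fun i => w i - η.app (U i) (t i)) (fun i j => by
        show rJ inf_le_left (w i - η.app (U i) (t i)) = rJ inf_le_right (w j - η.app (U j) (t j))
        rw [map_sub, map_sub, hηr, hηr, sub_eq_sub_iff_sub_eq_sub, ← hs, ← map_sub]
        congr 1
        refine Scheme.germToFunctionField_injective X (U i ⊓ U j) ?_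
        rw [map_sub, germ_res, germ_res, ht, ht, heq])
    refine ⟨z, TopCat.Sheaf.eq_of_locally_eq' ⟨Q.presheaf, Q.isSheaf⟩ U ⊤ (fun i => homOfLE le_top)
      (fun x _ => Opens.mem_iSup.2 (hcov x)) _ _ fun i => ?_⟩
    show Q.presheaf.map (homOfLE le_top).op ((cokernel.π η).app ⊤ z) = Q.presheaf.map (homOfLE le_top).op q
    rw [← QCoh.map_app_comm (cokernel.π η), ← hw]
    refine (congrArg ((cokernel.π η).app (U i)) (hz i)).trans ?_
    rw [map_sub]
    exact sub_eq_self.2 congr(($(cokernel.condition η)).app (U i) (t i))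
  have hp0 : Function.Surjective (mapLin A (cokernel.π η) 0) := fun y => by
    obtain ⟨t, ht⟩ := hsurj (Sheaf.H.equiv₀ (Coh.toAb Q) isTerminalTop y)
    refine ⟨(Sheaf.H.equiv₀ (Coh.toAb J) isTerminalTop).symm t, (Sheaf.H.equiv₀ (Coh.toAb Q) isTerminalTop).injective ?_⟩
    refine (Sheaf.H.equiv₀_naturality isTerminalTop ((QCoh.toAbFunctor X).map (cokernel.π η)) _).symm.trans ?_
    exact (congrArg ((cokernel.π η).app ⊤) (AddEquiv.apply_symm_apply _ _)).trans ht
  refine subsingleton_of_forall_eq 0 fun y => ?_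
  obtain ⟨x, rfl⟩ := (CurveCohLib.ker_mapLin_f_succ A hS 0).le
    (LinearMap.mem_ker.2 (Subsingleton.elim (mapLin A η 1 y) 0))
  obtain ⟨w, rfl⟩ := hp0 x
  exact LinearMap.mem_ker.1 ((CurveCohLib.ker_deltaLin A hS 0).ge ⟨w, rfl⟩)

end Groth.Agent.RatSingReg
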