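import Groth.Agent.RatSingReg.Val
import Groth.Agent.PointBlowUp.Regular
import Groth.Agent.RegLoc6.Normal
import Mathlib.RingTheory.Polynomial.Quotient

/-! The standard chart `A[y/x]` of the blowing up of a two-dimensional regular local ring inside its
fraction field. -/

noncomputable section

set_option linter.style.haveILetI false
set_option linter.unusedSectionVars false

universe u

open Polynomial IsLocalRing

namespace Groth.Agent.RatSingReg

open Groth.Agent

/-- `x, y` is a regular system of parameters of the two-dimensional regular local ring `A`. -/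
structure Params {A : Type u} [CommRing A] [IsLocalRing A] (x y : A) : Prop where
  xne : x ≠ 0
  yne : y ≠ 0
  span : Ideal.span {x, y} = maximalIdeal A
  xprime : (Ideal.span {x}).IsPrime
  ynmem : y ∉ Ideal.span {x}

variable {A : Type u} [CommRing A] [IsRegularLocalRing A]

theorem params_of_span (hA : ringKrullDim A = 2) {x y : A} (hxy : Ideal.span {x, y} = maximalIdeal A) :
    Params x y := by
  haveI := RegLoc6.isDomain_of_isRegularLocalRing A
  have h2 : (maximalIdeal A).spanFinrank = 2 := by
    have h := IsRegularLocalRing.spanFinrank_maximalIdeal (R := A)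
    rw [hA] at h
    exact_mod_cast h
  have hone : ∀ z : A, maximalIdeal A ≤ Ideal.span {z} → z ∈ maximalIdeal A → False := fun z hle hz => by
    have he : Ideal.span {z} = maximalIdeal A := le_antisymm ((Ideal.span_singleton_le_iff_mem _).2 hz) hle
    have h3 := Submodule.spanFinrank_span_le_ncard_of_finite (R := A) (M := A) (Set.finite_singleton z)
    rw [Set.ncard_singleton, show Submodule.span A {z} = maximalIdeal A from he, h2] at h3
    omega
  have hxm : x ∈ maximalIdeal A := hxy ▸ Ideal.subset_span (Set.mem_insert _ _)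
  have hym : y ∈ maximalIdeal A := hxy ▸ Ideal.subset_span (Set.mem_insert_of_mem _ rfl)
  have hx2 : x ∉ maximalIdeal A ^ 2 := fun h => by
    refine hone y (Submodule.le_of_le_smul_of_le_jacobson_bot (I := maximalIdeal A) (IsNoetherian.noetherian _)
      (maximalIdeal_le_jacobson _) ?_) hym
    conv_lhs => rw [← hxy]
    rw [Ideal.span_le]
    rintro z (rfl | rfl)
    · rw [pow_two] at h
      exact Submodule.mem_sup_right h
    · exact Submodule.mem_sup_left (Ideal.subset_span rfl)
  haveI := (RegLoc6.isRegularLocalRing_quot_and hxm hx2).1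
  haveI := RegLoc6.isDomain_of_isRegularLocalRing (A ⧸ Ideal.span {x})
  have hp : (Ideal.span {x}).IsPrime := (Ideal.Quotient.isDomain_iff_prime _).1 inferInstance
  have hy : y ∉ Ideal.span {x} := fun h => hone x (by
    rw [← hxy, Ideal.span_le]
    rintro z (rfl | rfl)
    · exact Ideal.subset_span rfl
    · exact h) hxm
  exact ⟨fun h => hx2 (h ▸ zero_mem _), fun h => hy (h ▸ zero_mem _), hxy, hp, hy⟩

theorem Params.xmem {x y : A} (h : Params x y) : x ∈ maximalIdeal A :=
  h.span ▸ Ideal.subset_span (Set.mem_insert _ _)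

theorem Params.ymem {x y : A} (h : Params x y) : y ∈ maximalIdeal A :=
  h.span ▸ Ideal.subset_span (Set.mem_insert_of_mem _ rfl)

theorem Params.symm {x y : A} (hA : ringKrullDim A = 2) (h : Params x y) : Params y x :=
  params_of_span hA (by rw [Set.pair_comm]; exact h.span)

variable (K : Type u) [Field K] [Algebra A K] [IsFractionRing A K]

local notation "ι'" => algebraMap A K

/-- The fraction `y / x`. -/
def frac (x y : A) : K := algebraMap A K y / algebraMap A K x

variable {x y : A}

theorem algebraMap_ne (hz : x ≠ 0) : algebraMap A K x ≠ 0 :=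
  fun h => hz (IsFractionRing.injective A K (h.trans (map_zero _).symm))

theorem mul_frac (h : Params x y) : ι' x * frac K x y = ι' y :=
  mul_div_cancel₀ _ (algebraMap_ne K h.xne)

theorem exists_form (h : Params x y) : ∀ (d : ℕ) (a : A), a ∈ maximalIdeal A ^ d →
    ∃ P : A[X], P.natDegree ≤ d ∧ ι' a = ι' x ^ d * aeval (frac K x y) P := by
  intro d
  induction d with
  | zero => exact fun a _ => ⟨C a, by simp, by simp⟩
  | succ d ih =>
    intro a ha
    rw [pow_succ, ← h.span, Ideal.mul_comm] at ha
    induction ha using Submodule.mul_induction_on' with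
    | mem_mul_mem p hp q hq =>
      rw [h.span] at hq
      obtain ⟨Q, hQ, hq'⟩ := ih q hq
      obtain ⟨r, s, rfl⟩ := Ideal.mem_span_pair.1 hp
      refine ⟨(C r + C s * X) * Q, ?_, ?_⟩
      · refine natDegree_mul_le.trans ?_
        have : (C r + C s * X).natDegree ≤ 1 := by
          refine (natDegree_add_le _ _).trans (max_le (by simp) ?_)
          exact (natDegree_C_mul_le _ _).trans natDegree_X_le
        omega
      · simp only [map_add, map_mul, aeval_C, aeval_X, hq']
        linear_combination (-(ι' s) * (ι' x ^ d * aeval (frac K x y) Q)) * mul_frac K h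
    | add p _ q _ hp hq =>
      obtain ⟨P, hP, hp⟩ := hp
      obtain ⟨Q, hQ, hq⟩ := hq
      exact ⟨P + Q, (natDegree_add_le _ _).trans (max_le hP hQ), by rw [map_add, map_add, hp, hq, mul_add]⟩

theorem exists_of_natDegree_le (h : Params x y) (I : Ideal A) : ∀ (d : ℕ) (P : A[X]), P.natDegree ≤ d →
    (∀ i, P.coeff i ∈ I) → ∃ a ∈ I * maximalIdeal A ^ d, ι' a = ι' x ^ d * aeval (frac K x y) P := by
  intro d
  induction d with
  | zero =>
    intro P hP hI
    refine ⟨P.coeff 0, by simpa using hI 0, ?_⟩
    rw [eq_C_of_natDegree_le_zero hP]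
    simp
  | succ d ih =>
    intro P hP hI
    obtain ⟨a, ha, ha'⟩ := ih P.divX (by rw [natDegree_divX_eq_natDegree_tsub_one]; omega)
      (fun i => by rw [coeff_divX]; exact hI _)
    refine ⟨P.coeff 0 * x ^ (d + 1) + y * a, Ideal.add_mem _
      (Ideal.mul_mem_mul (hI 0) (Ideal.pow_mem_pow h.xmem _)) ?_, ?_⟩
    · rw [pow_succ, ← mul_assoc, mul_comm y]
      exact Ideal.mul_mem_mul ha h.ymem
    · conv_rhs => rw [← P.divX_mul_X_add]
      simp only [map_add, map_mul, map_pow, aeval_C, aeval_X, ha']
      linear_combination (-(ι' x ^ d * aeval (frac K x y) P.divX)) * mul_frac K h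

theorem exists_mem_pow (h : Params x y) (d : ℕ) (P : A[X]) (hP : P.natDegree ≤ d) :
    ∃ a ∈ maximalIdeal A ^ d, ι' a = ι' x ^ d * aeval (frac K x y) P := by
  obtain ⟨a, ha, e⟩ := exists_of_natDegree_le K h ⊤ d P hP fun i => trivial
  exact ⟨a, by simpa using ha, e⟩

theorem coeff_mem_of_aeval_eq_zero (h : Params x y) : ∀ (d : ℕ) (P : A[X]), P.natDegree ≤ d →
    aeval (frac K x y) P = 0 → ∀ i, P.coeff i ∈ maximalIdeal A := by
  haveI := RegLoc6.isDomain_of_isRegularLocalRing A
  intro d
  induction d with
  | zero =>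
    intro P hP h0 i
    obtain ⟨c, rfl⟩ : ∃ c, P = C c := ⟨P.coeff 0, eq_C_of_natDegree_le_zero hP⟩
    rw [aeval_C] at h0
    rw [show c = 0 from IsFractionRing.injective A K (h0.trans (map_zero _).symm)]
    simp
  | succ d ih =>
    intro P hP h0
    set c := P.coeff (d + 1) with hc
    let P' := P.erase (d + 1)
    have hP' : P'.natDegree ≤ d := natDegree_le_iff_coeff_eq_zero.2 fun m hm => by
      rw [coeff_erase]
      split
      · rfl
      · exact coeff_eq_zero_of_natDegree_lt (by omega)
    have hPP : P' + C c * X ^ (d + 1) = P := by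
      rw [hc, C_mul_X_pow_eq_monomial, add_comm]
      exact monomial_add_erase P (d + 1)
    obtain ⟨b, -, hb⟩ := exists_mem_pow K h d P' hP'
    rw [← hPP, map_add, map_mul, aeval_C, map_pow, aeval_X] at h0
    have h1 : c * y ^ (d + 1) = x * -b := IsFractionRing.injective A K (by
      simp only [map_mul, map_pow, map_neg, hb, ← mul_frac K h, mul_pow]
      linear_combination (ι' x ^ (d + 1)) * h0)
    have hcx : c ∈ Ideal.span {x} := by
      refine (h.xprime.mem_or_mem (show c * y ^ (d + 1) ∈ Ideal.span {x} from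
        Ideal.mem_span_singleton'.2 ⟨-b, by rw [h1, mul_comm]⟩)).resolve_right fun h2 => ?_
      exact h.ynmem (h.xprime.mem_of_pow_mem _ h2)
    obtain ⟨e, he⟩ := Ideal.mem_span_singleton'.1 hcx
    have hdeg : (P' + C (e * y) * X ^ d).natDegree ≤ d :=
      (natDegree_add_le _ _).trans (max_le hP' ((natDegree_C_mul_X_pow_le _ _)))
    have h3 : aeval (frac K x y) (P' + C (e * y) * X ^ d) = 0 := by
      rw [map_add, map_mul, aeval_C, map_pow, aeval_X, map_mul, ← mul_frac K h]
      rw [← he, map_mul] at h0
      linear_combination h0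
    intro i
    have h4 := ih _ hdeg h3 i
    rw [coeff_add, coeff_C_mul_X_pow, coeff_erase] at h4
    by_cases hi : i = d + 1
    · rw [hi, ← hc, ← he]
      exact Ideal.mul_mem_left _ _ h.xmem
    · rw [if_neg hi] at h4
      refine (Ideal.add_mem_iff_left _ ?_).1 h4
      split
      · exact Ideal.mul_mem_left _ _ h.ymem
      · exact zero_mem _

theorem coeff_mem_of_form (h : Params x y) {d : ℕ} {P : A[X]} {a : A}
    (ha : a ∈ maximalIdeal A ^ (d + 1)) (e : ι' a = ι' x ^ d * aeval (frac K x y) P) :
    ∀ i, P.coeff i ∈ maximalIdeal A := by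
  obtain ⟨Q, hQ, hQ'⟩ := exists_form K h _ a ha
  have h0 : aeval (frac K x y) (P - C x * Q) = 0 := by
    refine (mul_eq_zero.1 ?_).resolve_left (pow_ne_zero d (algebraMap_ne K h.xne))
    simp only [map_sub, map_mul, aeval_C]
    linear_combination hQ' - e
  intro i
  have h1 := coeff_mem_of_aeval_eq_zero K h _ _ le_rfl h0 i
  rw [coeff_sub, coeff_C_mul] at h1
  have h2 := Ideal.add_mem _ h1 (Ideal.mul_mem_right (Q.coeff i) _ h.xmem)
  rwa [sub_add_cancel] at h2

theorem mem_pow_of_mul_mem (h : Params x y) : ∀ {n : ℕ} {z : A}, x * z ∈ maximalIdeal A ^ (n + 1) →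
    z ∈ maximalIdeal A ^ n := by
  haveI := RegLoc6.isDomain_of_isRegularLocalRing A
  intro n
  induction n with
  | zero => simp
  | succ n ih =>
    intro z hz
    obtain ⟨P, hP, e⟩ := exists_form (FractionRing A) h n z (ih (Ideal.pow_le_pow_right (Nat.le_succ _) hz))
    have hc := coeff_mem_of_form (FractionRing A) h (d := n + 1) hz (P := P) (by rw [map_mul, e, pow_succ']; ring)
    obtain ⟨a, ha, e'⟩ := exists_of_natDegree_le (FractionRing A) h _ n P hP hc
    rw [← IsFractionRing.injective A (FractionRing A) (e'.trans e.symm)]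
    rwa [pow_succ']

theorem mem_pow_of_pow_mul_mem (h : Params x y) : ∀ (k : ℕ) {n : ℕ} {z : A},
    x ^ k * z ∈ maximalIdeal A ^ (n + k) → z ∈ maximalIdeal A ^ n := by
  intro k
  induction k with
  | zero => simp
  | succ k ih =>
    intro n z hz
    refine ih (mem_pow_of_mul_mem h ?_)
    rwa [← mul_assoc, ← pow_succ']

variable (x y)

/-- The chart `A[y/x]`. -/
def chart : Subring K := (aeval (R := A) (frac K x y)).range.toSubring

/-- The presentation of the chart. -/
def present : A[X] →+* chart K x y :=
  (aeval (R := A) (frac K x y)).toRingHom.codRestrict _ fun P => ⟨P, rfl⟩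

variable {x y}

theorem present_surjective : Function.Surjective (present K x y) := fun ⟨_, P, hP⟩ => ⟨P, Subtype.ext hP⟩

theorem algebraMap_mem_chart (a : A) : ι' a ∈ chart K x y := ⟨C a, aeval_C _ _⟩

/-- `A → A[y/x]`. -/
def toChart : A →+* chart K x y := (present K x y).comp C

theorem coe_toChart (a : A) : ((toChart K (x := x) (y := y) a : chart K x y) : K) = ι' a := aeval_C _ _

theorem frac_mem_chart : frac K x y ∈ chart K x y := ⟨X, aeval_X _⟩

theorem exists_pow_mul_mem {z : K} (h : Params x y) (hz : z ∈ chart K x y) :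
    ∃ (d : ℕ) (a : A), a ∈ maximalIdeal A ^ d ∧ ι' a = ι' x ^ d * z := by
  obtain ⟨P, rfl⟩ := hz
  obtain ⟨a, ha, e⟩ := exists_mem_pow K h P.natDegree P le_rfl
  exact ⟨_, a, ha, e⟩

theorem mem_pow_iff (h : Params x y) (r : ℕ) (a : A) :
    a ∈ maximalIdeal A ^ r ↔ ∃ b ∈ chart K x y, ι' a = ι' x ^ r * b := by
  refine ⟨fun ha => ?_, ?_⟩
  · obtain ⟨P, -, e⟩ := exists_form K h r a ha
    exact ⟨_, ⟨P, rfl⟩, e⟩
  · rintro ⟨b, hb, e⟩
    obtain ⟨d, c, hc, e'⟩ := exists_pow_mul_mem K h hb
    refine mem_pow_of_pow_mul_mem h d ?_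
    rw [show x ^ d * a = x ^ r * c from IsFractionRing.injective A K (by
      simp only [map_mul, map_pow, e, e']; ring), pow_add]
    exact Ideal.mul_mem_mul (Ideal.pow_mem_pow h.xmem r) hc

theorem ker_present_le (h : Params x y) :
    RingHom.ker (present K x y) ≤ (maximalIdeal A).map (C : A →+* A[X]) := fun P hP =>
  Ideal.mem_map_C_iff.2 (coeff_mem_of_aeval_eq_zero K h _ P le_rfl (congrArg Subtype.val hP))

theorem map_maximalIdeal_chart (h : Params x y) :
    Ideal.span {toChart K (x := x) (y := y) x} = (maximalIdeal A).map (toChart K (x := x) (y := y)) := by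
  rw [← h.span, Ideal.map_span, Set.image_pair]
  refine le_antisymm (Ideal.span_mono (by simp)) (Ideal.span_le.2 ?_)
  rintro z (rfl | rfl)
  · exact Ideal.subset_span rfl
  · refine Ideal.mem_span_singleton'.2 ⟨⟨_, frac_mem_chart K⟩, Subtype.ext ?_⟩
    rw [Subring.coe_mul, coe_toChart, coe_toChart, mul_comm]
    exact mul_frac K h

theorem isPrime_span_chart (h : Params x y) : (Ideal.span {toChart K (x := x) (y := y) x}).IsPrime := by
  haveI : ((maximalIdeal A).map (C : A →+* A[X])).IsPrime := Ideal.isPrime_map_C_of_isPrime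
  rw [map_maximalIdeal_chart K h, toChart, ← Ideal.map_map]
  exact Ideal.map_isPrime_of_surjective (present_surjective K) (ker_present_le K h)

theorem isPrincipalIdealRing_quot_chart (h : Params x y) :
    IsPrincipalIdealRing (chart K x y ⧸ Ideal.span {toChart K (x := x) (y := y) x}) := by
  let φ₀ : A ⧸ maximalIdeal A →+* chart K x y ⧸ Ideal.span {toChart K (x := x) (y := y) x} :=
    Ideal.Quotient.lift _ ((Ideal.Quotient.mk _).comp (toChart K (x := x) (y := y))) fun a ha =>
      Ideal.Quotient.eq_zero_iff_mem.2 (by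
        rw [map_maximalIdeal_chart K h]
        exact Ideal.mem_map_of_mem _ ha)
  letI : Field (A ⧸ maximalIdeal A) := Ideal.Quotient.field _
  refine IsPrincipalIdealRing.of_surjective
    (Polynomial.eval₂RingHom φ₀ (Ideal.Quotient.mk _ (present K x y X))) fun w => ?_
  obtain ⟨b, rfl⟩ := Ideal.Quotient.mk_surjective w
  obtain ⟨P, rfl⟩ := present_surjective K b
  refine ⟨P.map (Ideal.Quotient.mk (maximalIdeal A)), ?_⟩
  have h5 : (Polynomial.eval₂RingHom φ₀ (Ideal.Quotient.mk _ (present K x y X))).comp
      (Polynomial.mapRingHom (Ideal.Quotient.mk (maximalIdeal A))) = (Ideal.Quotient.mk _).comp (present K x y) :=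
    Polynomial.ringHom_ext (fun r => by
      simp only [RingHom.comp_apply, coe_mapRingHom, map_C, coe_eval₂RingHom, eval₂_C]
      rfl) (by simp)
  exact RingHom.congr_fun h5 P

instance : IsNoetherianRing (chart K x y) :=
  isNoetherianRing_of_surjective _ _ (present K x y) (present_surjective K)

/-- The chart is the intersection of the valuation rings containing it. -/
theorem mem_chart_of_forall (h : Params x y) {z : K}
    (hz : ∀ V : ValuationSubring K, (chart K x y : Set K) ⊆ (V : Set K) → z ∈ V) : z ∈ chart K x y := by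
  have hdesc : ∀ m : ℕ, ι' x ^ m * z ∈ chart K x y → z ∈ chart K x y := by
    intro m
    induction m with
    | zero => simp
    | succ m ih =>
      intro hm
      by_cases hmem : (⟨_, hm⟩ : chart K x y) ∈ Ideal.span {toChart K (x := x) (y := y) x}
      · obtain ⟨b, hb⟩ := Ideal.mem_span_singleton'.1 hmem
        have hb' : (b : K) * ι' x = ι' x ^ (m + 1) * z := (by
          have := congrArg Subtype.val hb
          rwa [Subring.coe_mul, coe_toChart] at this)
        refine ih ?_
        rw [show ι' x ^ m * z = (b : K) from mul_right_cancel₀ (algebraMap_ne K h.xne)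
          (by rw [hb', pow_succ]; ring)]
        exact b.2
      · exfalso
        haveI := isPrime_span_chart K h
        obtain ⟨V, hV⟩ := (LocalSubring.ofPrime (chart K x y) (Ideal.span {toChart K (x := x) (y := y) x})).exists_le_valuationSubring
        obtain ⟨h1, h2⟩ := hV
        have hle : (chart K x y : Set K) ⊆ (V : Set K) := fun w hw => h1 (LocalSubring.le_ofPrime _ _ hw)
        let P := LocalSubring.ofPrime (chart K x y) (Ideal.span {toChart K (x := x) (y := y) x})
        let j : chart K x y →+* P.toSubring := Subring.inclusion (LocalSubring.le_ofPrime _ _)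
        letI := j.toAlgebra
        have hu : IsUnit (j ⟨_, hm⟩) := IsLocalization.map_units (M := (Ideal.span {toChart K (x := x) (y := y) x}).primeCompl) P.toSubring ⟨_, hmem⟩
        have hx : ¬ IsUnit (j (toChart K (x := x) (y := y) x)) := fun hcon => by
          have := (IsLocalization.AtPrime.isUnit_to_map_iff P.toSubring (Ideal.span {toChart K (x := x) (y := y) x}) _).1 hcon
          exact this (Ideal.subset_span rfl)
        refine hx (IsUnit.of_map (Subring.inclusion h1) _ ?_)
        have e : Subring.inclusion h1 (j ⟨_, hm⟩) = Subring.inclusion h1 (j (toChart K (x := x) (y := y) x)) *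
            (⟨ι' x ^ m * z, mul_mem (pow_mem (hle (algebraMap_mem_chart K x)) m) (hz V hle)⟩ : V.toLocalSubring.toSubring) := by
          refine Subtype.ext ?_
          show ι' x ^ (m + 1) * z = ((toChart K (x := x) (y := y) x : chart K x y) : K) * (ι' x ^ m * z)
          rw [coe_toChart, pow_succ]
          ring
        exact (IsUnit.mul_iff.1 (e ▸ hu.map (Subring.inclusion h1))).1
  haveI := RegLoc6.isDomain_of_isRegularLocalRing A
  haveI := RegLoc6.isIntegrallyClosed_of_isRegularLocalRing A
  obtain ⟨n, hn⟩ := exists_pow_mul (B := Set.range (algebraMap A K)) (h := ι' x) ⟨x, rfl⟩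
    (algebraMap_ne K h.xne) (x := z) fun V hV hxi => hz V (by
      rintro _ ⟨P, rfl⟩
      show aeval (frac K x y) P ∈ V
      induction P using Polynomial.induction_on' with
      | add p q hp hq => rw [map_add]; exact V.add_mem _ _ hp hq
      | monomial n a =>
        rw [aeval_monomial]
        refine V.mul_mem _ _ (hV ⟨a, rfl⟩) (pow_mem ?_ n)
        show ι' y / ι' x ∈ V
        rw [div_eq_mul_inv]
        exact V.mul_mem _ _ (hV ⟨y, rfl⟩) hxi)
  haveI : IsIntegrallyClosedIn (algebraMap A K).range K := by
    rw [Subring.isIntegrallyClosedIn_iff]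
    intro w hw
    letI : Algebra A (algebraMap A K).range := (algebraMap A K).rangeRestrict.toAlgebra
    haveI : IsScalarTower A (algebraMap A K).range K := IsScalarTower.of_algebraMap_eq fun _ => rfl
    haveI : Algebra.IsIntegral A (algebraMap A K).range := ⟨fun r => by
      obtain ⟨a, rfl⟩ := (algebraMap A K).rangeRestrict_surjective r
      exact isIntegral_algebraMap⟩
    have : IsIntegral A w := isIntegral_trans (R := A) (A := (algebraMap A K).range) w hw
    obtain ⟨a, rfl⟩ := IsIntegrallyClosed.isIntegral_iff.1 this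
    exact ⟨a, rfl⟩
  have hA' : ι' x ^ n * z ∈ (algebraMap A K).range := by
    rw [Subring.eq_iInf_of_isIntegrallyClosedIn (R := (algebraMap A K).range), Subring.mem_iInf]
    exact fun V => hn V.1 (fun w hw => V.2 hw)
  obtain ⟨a, ha⟩ := hA'
  exact hdesc n (ha ▸ algebraMap_mem_chart K a)

end Groth.Agent.RatSingReg
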