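import Groth.Agent.RatSingReg.Step
import Groth.Agent.RegDimTwo.Basic
import Mathlib.RingTheory.Localization.NumDen

/-! Splitting of principal parts over a two-dimensional regular local ring, by descending along chains
of quadratic transforms. -/

noncomputable section

set_option linter.style.haveILetI false
set_option linter.unusedSectionVars false

universe u

open Polynomial IsLocalRing

namespace Groth.Agent.RatSingReg

open Groth.Agent

variable {K : Type u} [Field K]

theorem solv_of_monomial (φ : ValuationSubring K → K) (T : Set K) (p : K) (hne0 : p ≠ 0) (hp : ∀ V : ValuationSubring K, T ⊆ (V : Set K) → p ∈ V)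
    (hz : ∀ z : K, z ≠ 0 → ∃ (i j : ℕ) (e : K), z * p ^ j = p ^ i * e ∧ e ≠ 0 ∧
      ∀ V : ValuationSubring K, T ⊆ (V : Set K) → e ∈ V ∧ e⁻¹ ∈ V) : Solv φ T := by
  classical
  have htop : ∀ V : ValuationSubring K, T ⊆ (V : Set K) → (p = 0 ∨ p⁻¹ ∈ V) → ∀ z, z ∈ V := by
    intro V hV hpV z
    rcases eq_or_ne z 0 with rfl | hz0
    · exact V.zero_mem
    obtain ⟨i, j, e, he, he0, hee⟩ := hz z hz0
    rcases eq_or_ne p 0 with rfl | hp0
    · exact (hne0 rfl).elim
    · have hpi : p⁻¹ ∈ V := hpV.resolve_left hp0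
      rw [show z = p ^ i * e * p⁻¹ ^ j by rw [← he, mul_assoc, ← mul_pow, mul_inv_cancel₀ hp0, one_pow, mul_one]]
      exact V.mul_mem _ _ (V.mul_mem _ _ (pow_mem (hp V hV) i) (hee V hV).1) (pow_mem hpi j)
  by_cases hex : ∃ V : ValuationSubring K, T ⊆ (V : Set K) ∧ ¬ (p = 0 ∨ p⁻¹ ∈ V)
  · obtain ⟨V₁, hV₁, hV₁p⟩ := hex
    refine ⟨-φ V₁, fun V hV => ?_⟩
    by_cases hVp : p = 0 ∨ p⁻¹ ∈ V
    · exact htop V hV hVp _
    · have key : ∀ W : ValuationSubring K, T ⊆ (W : Set K) → ¬ (p = 0 ∨ p⁻¹ ∈ W) → ∀ z, z ≠ 0 →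
          ∀ (i j : ℕ) (e : K), z * p ^ j = p ^ i * e → e ≠ 0 → e ∈ W → e⁻¹ ∈ W → (z ∈ W ↔ j ≤ i) := by
        intro W hW hWp z hz0 i j e he he0 heW heW'
        push Not at hWp
        refine ⟨fun hzW => ?_, fun hji => ?_⟩
        · by_contra hlt
          obtain ⟨k, rfl⟩ : ∃ k, j = i + (k + 1) := ⟨j - i - 1, by omega⟩
          refine hWp.2 ?_
          have h1 : p⁻¹ = z * p ^ k * e⁻¹ := by
            have h2 : z * p ^ (k + 1) = e := mul_left_cancel₀ (pow_ne_zero i hWp.1) (by
              rw [← he, pow_add]; ring)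
            refine inv_eq_of_mul_eq_one_right ?_
            rw [show p * (z * p ^ k * e⁻¹) = z * p ^ (k + 1) * e⁻¹ by ring, h2, mul_inv_cancel₀ he0]
          rw [h1]
          exact W.mul_mem _ _ (W.mul_mem _ _ hzW (pow_mem (hp W hW) k)) heW'
        · obtain ⟨k, rfl⟩ := Nat.exists_eq_add_of_le hji
          rw [show z = p ^ k * e from mul_right_cancel₀ (pow_ne_zero j hWp.1) (by rw [he, pow_add]; ring)]
          exact W.mul_mem _ _ (pow_mem (hp W hW) k) heW
      have hVV : V = V₁ := SetLike.ext fun z => by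
        rcases eq_or_ne z 0 with rfl | hz0
        · simp [zero_mem]
        obtain ⟨i, j, e, he, he0, hee⟩ := hz z hz0
        rw [key V hV hVp z hz0 i j e he he0 (hee V hV).1 (hee V hV).2,
          key V₁ hV₁ hV₁p z hz0 i j e he he0 (hee V₁ hV₁).1 (hee V₁ hV₁).2]
      rw [hVV, neg_add_cancel]
      exact V₁.zero_mem
  · push Not at hex
    exact ⟨0, fun V hV => htop V hV (hex V hV) _⟩

theorem exists_monomial {D : Type u} [CommRing D] [IsDomain D] [IsNoetherianRing D] [Algebra D K] [IsFractionRing D K]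
    {π : D} (hπ : Prime π) (z : K) (hz : z ≠ 0) :
    ∃ (i j : ℕ) (a b : D), ¬ π ∣ a ∧ ¬ π ∣ b ∧
      z * algebraMap D K π ^ j = algebraMap D K π ^ i * (algebraMap D K a / algebraMap D K b) := by
  obtain ⟨⟨a, s⟩, hs⟩ := IsLocalization.surj (nonZeroDivisors D) z
  have hs0 : (s : D) ≠ 0 := nonZeroDivisors.ne_zero s.2
  have ha0 : a ≠ 0 := fun h => by
    rw [h, map_zero] at hs
    exact hs0 (IsFractionRing.injective D K (((mul_eq_zero.1 hs).resolve_left hz).trans (map_zero _).symm))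
  obtain ⟨i, a', ha', ha''⟩ := WfDvdMonoid.max_power_factor ha0 hπ.irreducible
  obtain ⟨j, b', hb', hb''⟩ := WfDvdMonoid.max_power_factor hs0 hπ.irreducible
  refine ⟨i, j, a', b', ha', hb', ?_⟩
  have hb0 : algebraMap D K b' ≠ 0 := fun h => hb' (by
    rw [IsFractionRing.injective D K (h.trans (map_zero _).symm)]; exact dvd_zero π)
  rw [← mul_div_assoc, eq_div_iff hb0]
  have h1 : z * algebraMap D K (π ^ j * b') = algebraMap D K (π ^ i * a') := by rw [← hb'', ← ha'']; exact hs
  rw [map_mul, map_mul, map_pow, map_pow] at h1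
  linear_combination h1

theorem solv_of_prime_nonmax {A : Type u} [CommRing A] [IsRegularLocalRing A] [Algebra A K] [IsFractionRing A K]
    (hA : ringKrullDim A = 2) (φ : ValuationSubring K → K) (p : Ideal A) [p.IsPrime] (hp : p ≠ maximalIdeal A) :
    Solv φ (Set.range (algebraMap A K) ∪ {z | ∃ s : A, s ∉ p ∧ z = (algebraMap A K s)⁻¹}) := by
  obtain ⟨hdom, hufd⟩ := RegDimTwo.ufd A hA
  haveI := hdom
  haveI := hufd
  set T : Set K := Set.range (algebraMap A K) ∪ {z | ∃ s : A, s ∉ p ∧ z = (algebraMap A K s)⁻¹} with hT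
  have hunit : ∀ a : A, a ∉ p → ∀ V : ValuationSubring K, T ⊆ (V : Set K) →
      algebraMap A K a ∈ V ∧ (algebraMap A K a)⁻¹ ∈ V := fun a ha V hV =>
    ⟨hV (Or.inl ⟨a, rfl⟩), hV (Or.inr ⟨a, ha, rfl⟩)⟩
  have hdiv : ∀ a b : A, a ∉ p → b ∉ p → ∀ V : ValuationSubring K, T ⊆ (V : Set K) →
      algebraMap A K a / algebraMap A K b ∈ V ∧ (algebraMap A K a / algebraMap A K b)⁻¹ ∈ V := fun a b ha hb V hV => by
    rw [inv_div, div_eq_mul_inv, div_eq_mul_inv]
    exact ⟨V.mul_mem _ _ (hunit a ha V hV).1 (hunit b hb V hV).2, V.mul_mem _ _ (hunit b hb V hV).1 (hunit a ha V hV).2⟩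
  by_cases hp0 : p = ⊥
  · refine ⟨0, fun V hV => ?_⟩
    obtain ⟨⟨a, s⟩, hs⟩ := IsLocalization.surj (nonZeroDivisors A) (0 + φ V)
    have hs0 : algebraMap A K (s : A) ≠ 0 := algebraMap_ne K (nonZeroDivisors.ne_zero s.2)
    rw [show 0 + φ V = algebraMap A K a * (algebraMap A K (s : A))⁻¹ from by
      rw [← hs, mul_assoc, mul_inv_cancel₀ hs0, mul_one]]
    exact V.mul_mem _ _ (hV (Or.inl ⟨a, rfl⟩))
      (hunit s (by rw [hp0, Ideal.mem_bot]; exact nonZeroDivisors.ne_zero s.2) V hV).2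
  obtain ⟨π, hπp, hπ⟩ := Ideal.IsPrime.exists_mem_prime_of_ne_bot inferInstance hp0
  haveI : (Ideal.span {π}).IsPrime := (Ideal.span_singleton_prime hπ.ne_zero).2 hπ
  have hpeq : p = Ideal.span {π} := by
    by_contra hne
    have h1 : Ideal.span {π} < p := lt_of_le_of_ne ((Ideal.span_singleton_le_iff_mem _).2 hπp) (Ne.symm hne)
    have h2 : p < maximalIdeal A := lt_of_le_of_ne (le_maximalIdeal (Ideal.IsPrime.ne_top inferInstance)) hp
    have h0 : (⊥ : Ideal A) < Ideal.span {π} := bot_lt_iff_ne_bot.2 fun h => hπ.ne_zero (Ideal.span_singleton_eq_bot.1 h)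
    haveI : (⊥ : Ideal A).IsPrime := Ideal.isPrime_bot
    have hb := Ideal.height_strict_mono_of_isPrime h0
    have hc := Ideal.height_strict_mono_of_isPrime h1
    have hd := Ideal.height_strict_mono_of_isPrime h2
    rw [Ideal.height_bot] at hb
    have hm : (maximalIdeal A).height = 2 := by
      have := IsLocalRing.maximalIdeal_height_eq_ringKrullDim (R := A)
      rw [hA] at this
      rw [show (2 : WithBot ℕ∞) = ((2 : ℕ∞) : WithBot ℕ∞) from rfl] at this
      exact WithBot.coe_injective this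
    rw [hm] at hd
    have e1 : (1 : ℕ∞) ≤ (Ideal.span {π}).height := Order.one_le_iff_pos.2 hb
    have e2 : (1 : ℕ∞) < p.height := lt_of_le_of_lt e1 hc
    exact absurd hd (not_lt.2 (Order.add_one_le_of_lt e2))
  refine solv_of_monomial φ T (algebraMap A K π) (algebraMap_ne K hπ.ne_zero) (fun V hV => hV (Or.inl ⟨π, rfl⟩)) fun z hz => ?_
  obtain ⟨i, j, a, b, ha, hb, e⟩ := exists_monomial (D := A) hπ z hz
  have hnp : ∀ a : A, ¬ π ∣ a → a ∉ p := fun a ha h => ha (Ideal.mem_span_singleton.1 (hpeq ▸ h))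
  refine ⟨i, j, _, e, ?_, hdiv a b (hnp a ha) (hnp b hb)⟩
  exact div_ne_zero (algebraMap_ne K fun h => ha (h ▸ dvd_zero π)) (algebraMap_ne K fun h => hb (h ▸ dvd_zero π))

theorem solv_of_dim_le_one {D : Type u} [CommRing D] [IsRegularLocalRing D] [Algebra D K] [IsFractionRing D K]
    (hD : ringKrullDim D ≤ 1) (φ : ValuationSubring K → K) : Solv φ (Set.range (algebraMap D K)) := by
  haveI := RegLoc6.isDomain_of_isRegularLocalRing D
  have h1 : (maximalIdeal D).spanFinrank ≤ 1 := by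
    have h := IsRegularLocalRing.spanFinrank_maximalIdeal (R := D)
    rw [← h] at hD
    exact_mod_cast hD
  obtain ⟨π, hπ⟩ : ∃ π : D, maximalIdeal D = Ideal.span {π} := by
    have hfg : (maximalIdeal D).FG := IsNoetherian.noetherian _
    have hn : (Submodule.generators (maximalIdeal D)).ncard ≤ 1 := (Submodule.FG.generators_ncard hfg).trans_le h1
    rcases Nat.le_one_iff_eq_zero_or_eq_one.1 hn with h0 | h0
    · refine ⟨0, ?_⟩
      rw [Set.ncard_eq_zero (Submodule.FG.finite_generators hfg)] at h0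
      rw [← Submodule.span_generators (maximalIdeal D), h0]
      simp
    · obtain ⟨π, hπ⟩ := Set.ncard_eq_one.1 h0
      exact ⟨π, by rw [← Submodule.span_generators (maximalIdeal D), hπ]⟩
  have hunit : ∀ a : D, ¬ π ∣ a → IsUnit a := fun a ha => not_not.1 fun h =>
    ha (Ideal.mem_span_singleton.1 (hπ ▸ (mem_maximalIdeal a).2 h))
  rcases eq_or_ne π 0 with rfl | hπ0
  · refine ⟨0, fun V hV => ?_⟩
    obtain ⟨⟨a, s⟩, hs⟩ := IsLocalization.surj (nonZeroDivisors D) (0 + φ V)
    obtain ⟨w, hw⟩ := hunit (s : D) fun h => nonZeroDivisors.ne_zero s.2 (zero_dvd_iff.1 h)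
    rw [show 0 + φ V = algebraMap D K (a * ↑w⁻¹) from by
      rw [map_mul, ← hs, ← hw, mul_assoc, ← map_mul, Units.mul_inv, map_one, mul_one]]
    exact hV ⟨_, rfl⟩
  have hπp : Prime π := by
    rw [← Ideal.span_singleton_prime hπ0, ← hπ]
    infer_instance
  refine solv_of_monomial φ _ (algebraMap D K π) (fun h => hπ0 (IsFractionRing.injective D K (h.trans (map_zero _).symm))) (fun V hV => hV ⟨π, rfl⟩) fun z hz => ?_
  obtain ⟨i, j, a, b, ha, hb, e⟩ := exists_monomial (D := D) hπp z hz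
  obtain ⟨a, rfl⟩ := hunit a ha
  obtain ⟨b, rfl⟩ := hunit b hb
  have hinv : ∀ w : Dˣ, (algebraMap D K (w : D))⁻¹ = algebraMap D K ((w⁻¹ : Dˣ) : D) := fun w =>
    inv_eq_of_mul_eq_one_right (by rw [← map_mul, Units.mul_inv, map_one])
  refine ⟨i, j, _, e, ?_, fun V hV => ?_⟩
  · exact div_ne_zero (fun h => a.ne_zero (IsFractionRing.injective D K (h.trans (map_zero _).symm)))
      (fun h => b.ne_zero (IsFractionRing.injective D K (h.trans (map_zero _).symm)))
  · rw [inv_div, div_eq_mul_inv, div_eq_mul_inv, hinv, hinv]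
    exact ⟨V.mul_mem _ _ (hV ⟨_, rfl⟩) (hV ⟨_, rfl⟩), V.mul_mem _ _ (hV ⟨_, rfl⟩) (hV ⟨_, rfl⟩)⟩

variable {ι : Type u} [Finite ι] {R : ι → Finset K} {a : ι → K} {φ : ValuationSubring K → K}

theorem solv_chart {A : Type u} [CommRing A] [IsRegularLocalRing A] [Algebra A K] [IsFractionRing A K]
    (hA : ringKrullDim A = 2)
    (hφ : ∀ (V : ValuationSubring K) i, Set.range (algebraMap A K) ⊆ (V : Set K) → (R i : Set K) ⊆ (V : Set K) → φ V - a i ∈ V)
    (hcov : ∀ V : ValuationSubring K, Set.range (algebraMap A K) ⊆ (V : Set K) → ∃ i, (R i : Set K) ⊆ V)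
    {x y : A} (h : Params x y)
    (hchild : ∀ (q : Ideal (chart K x y)) [q.IsPrime], toChart K (x := x) (y := y) x ∈ q →
      ringKrullDim (stalk K q) = 2 → Solv φ (stalk K q : Set K)) :
    Solv φ (chart K x y : Set K) := by
  refine solv_of_local (chart K x y) fun q hq => ?_
  haveI := hq
  refine exists_nhd _ hφ hcov (chart K x y) (by rintro _ ⟨r, rfl⟩; exact algebraMap_mem_chart K r) q ?_
  by_cases hxq : toChart K (x := x) (y := y) x ∈ q
  · have hsolv : Solv φ (stalk K q : Set K) := by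
      haveI := isRegularLocalRing_stalk' K h q hxq
      haveI := isFractionRing_stalk K q
      rcases (ringKrullDim_stalk_le K h q hxq).lt_or_eq with hlt | heq
      · have h1 : ringKrullDim (stalk K q) ≤ 1 := by
          rw [← IsRegularLocalRing.spanFinrank_maximalIdeal (R := stalk K q)] at hlt ⊢
          have : (maximalIdeal (stalk K q)).spanFinrank < 2 := by exact_mod_cast hlt
          exact_mod_cast Nat.le_of_lt_succ this
        refine (solv_of_dim_le_one (D := stalk K q) h1 φ).mono fun V hV => ?_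
        rintro _ ⟨⟨z, hz⟩, rfl⟩
        exact hV hz
      · exact hchild q hxq heq
    exact hsolv.mono fun V hV => stalk_le_of_le K h hV
  · let p : Ideal A := q.comap (toChart K (x := x) (y := y))
    have hp : p ≠ maximalIdeal A := fun hpm => hxq (show x ∈ p from hpm ▸ h.xmem)
    refine (solv_of_prime_nonmax hA φ p hp).mono fun V hV => Set.union_subset ?_ ?_
    · rintro _ ⟨r, rfl⟩
      exact hV (Or.inl (algebraMap_mem_chart K r))
    · rintro _ ⟨s, hs, rfl⟩
      exact hV (Or.inr ⟨toChart K (x := x) (y := y) s, hs, by rw [coe_toChart]⟩)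

theorem exists_bad_child {A : Type u} [CommRing A] [IsRegularLocalRing A] [Algebra A K] [IsFractionRing A K]
    (hA : ringKrullDim A = 2)
    (hφ : ∀ (V : ValuationSubring K) i, Set.range (algebraMap A K) ⊆ (V : Set K) → (R i : Set K) ⊆ (V : Set K) → φ V - a i ∈ V)
    (hcov : ∀ V : ValuationSubring K, Set.range (algebraMap A K) ⊆ (V : Set K) → ∃ i, (R i : Set K) ⊆ V)
    (hbad : ¬ Solv φ (Set.range (algebraMap A K))) :
    ∃ (x y : A) (_ : Params x y) (q : Ideal (chart K x y)) (_ : q.IsPrime),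
      toChart K (x := x) (y := y) x ∈ q ∧ ringKrullDim (stalk K q) = 2 ∧ ¬ Solv φ (stalk K q : Set K) := by
  by_contra hne
  push Not at hne
  obtain ⟨x, y, -, -, hxy⟩ := PointBlowUp.exists_params A hA
  have h := params_of_span hA hxy
  have hs := h.symm hA
  obtain ⟨g₁, hg₁⟩ := solv_chart hA hφ hcov h fun q hq h1 h2 => hne x y h q hq h1 h2
  obtain ⟨g₂, hg₂⟩ := solv_chart hA hφ hcov hs fun q hq h1 h2 => hne y x hs q hq h1 h2
  have hw : g₁ - g₂ ∈ overlap K x y := mem_overlap_of_forall K h fun V h1 h2 => by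
    rw [show g₁ - g₂ = (g₁ + φ V) - (g₂ + φ V) by ring]
    exact sub_mem (hg₁ V h1) (hg₂ V h2)
  obtain ⟨z₁, hz₁, z₂, hz₂, e⟩ := exists_split K h hw
  refine hbad ⟨g₁ - z₁, fun V hV => ?_⟩
  rcases frac_mem_or K h V with hu | hu
  · have h1 := chart_le K hV hu
    rw [show g₁ - z₁ + φ V = (g₁ + φ V) - z₁ by ring]
    exact sub_mem (hg₁ V h1) (h1 hz₁)
  · have h2 := chart_le K hV hu
    rw [show g₁ - z₁ + φ V = (g₂ + φ V) + z₂ by linear_combination e]
    exact V.add_mem _ _ (hg₂ V h2) (h2 hz₂)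

variable (K)

/-- A two-dimensional regular local ring with fraction field `K`. -/
structure Pt where
  /-- The subring. -/
  S : Subring K
  [reg : IsRegularLocalRing S]
  dim : ringKrullDim S = 2
  [fr : IsFractionRing S K]

attribute [instance] Pt.reg Pt.fr

variable {K}

theorem range_algebraMap_subring (S : Subring K) : Set.range (algebraMap S K) = (S : Set K) :=
  Subtype.range_coe

theorem length_ne_top_of_isRelPrime {A : Type u} [CommRing A] [IsRegularLocalRing A] (hA : ringKrullDim A = 2)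
    {n d : A} (hd : d ≠ 0) (hnd : IsRelPrime n d) : Module.length A (A ⧸ Ideal.span {n, d}) ≠ ⊤ := by
  obtain ⟨hdom, hufd⟩ := RegDimTwo.ufd A hA
  haveI := hdom
  haveI := hufd
  have hprime : ∀ p : Ideal A, p.IsPrime → Ideal.span {n, d} ≤ p → p = maximalIdeal A := by
    intro p hp hle
    by_contra hne
    have hdp : d ∈ p := hle (Ideal.subset_span (Set.mem_insert_of_mem _ rfl))
    obtain ⟨π, hπp, hπ⟩ := Ideal.IsPrime.exists_mem_prime_of_ne_bot hp fun h => hd (by rwa [h, Ideal.mem_bot] at hdp)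
    haveI : (Ideal.span {π}).IsPrime := (Ideal.span_singleton_prime hπ.ne_zero).2 hπ
    have hpeq : p = Ideal.span {π} := by
      by_contra hne'
      haveI := hp
      haveI : (⊥ : Ideal A).IsPrime := Ideal.isPrime_bot
      have hb := Ideal.height_strict_mono_of_isPrime
        (bot_lt_iff_ne_bot.2 fun h => hπ.ne_zero (Ideal.span_singleton_eq_bot.1 h) : (⊥ : Ideal A) < Ideal.span {π})
      have hc := Ideal.height_strict_mono_of_isPrime
        (lt_of_le_of_ne ((Ideal.span_singleton_le_iff_mem _).2 hπp) (Ne.symm hne') : Ideal.span {π} < p)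
      have hd := Ideal.height_strict_mono_of_isPrime
        (lt_of_le_of_ne (le_maximalIdeal hp.ne_top) hne : p < maximalIdeal A)
      rw [Ideal.height_bot] at hb
      have hm : (maximalIdeal A).height = 2 := by
        have := IsLocalRing.maximalIdeal_height_eq_ringKrullDim (R := A)
        rw [hA] at this
        rw [show (2 : WithBot ℕ∞) = ((2 : ℕ∞) : WithBot ℕ∞) from rfl] at this
        exact WithBot.coe_injective this
      rw [hm] at hd
      exact absurd hd (not_lt.2 (Order.add_one_le_of_lt (lt_of_le_of_lt (Order.one_le_iff_pos.2 hb) hc)))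
    rw [hpeq] at hle
    exact hπ.not_unit (hnd (Ideal.mem_span_singleton.1 (hle (Ideal.subset_span (Set.mem_insert _ _))))
      (Ideal.mem_span_singleton.1 (hle (Ideal.subset_span (Set.mem_insert_of_mem _ rfl)))))
  haveI : IsArtinianRing (A ⧸ Ideal.span {n, d}) := isArtinianRing_iff_krullDimLE_zero.2 (Ring.KrullDimLE.mk₀ fun P hP => by
    haveI := hP
    haveI : (P.comap (Ideal.Quotient.mk (Ideal.span {n, d}))).IsPrime := Ideal.comap_isPrime _ _
    have hPm := hprime (P.comap (Ideal.Quotient.mk (Ideal.span {n, d}))) inferInstance (fun z hz => by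
      show Ideal.Quotient.mk _ z ∈ P
      rw [Ideal.Quotient.eq_zero_iff_mem.2 hz]
      exact zero_mem _)
    rw [← Ideal.map_comap_of_surjective _ Ideal.Quotient.mk_surjective P, hPm]
    refine (Ideal.map_eq_top_or_isMaximal_of_surjective _ Ideal.Quotient.mk_surjective (maximalIdeal.isMaximal A)).resolve_left ?_
    rw [← hPm, Ideal.map_comap_of_surjective _ Ideal.Quotient.mk_surjective]
    exact hP.ne_top)
  rw [Module.length_eq_of_surjective (S := A) (R := A ⧸ Ideal.span {n, d}) Ideal.Quotient.mk_surjective]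
  exact Module.length_ne_top

/-- Principal parts split over a two-dimensional regular local ring. -/
theorem solv_main {A : Type u} [CommRing A] [IsRegularLocalRing A] [Algebra A K] [IsFractionRing A K]
    (hA : ringKrullDim A = 2)
    (hφ : ∀ (V : ValuationSubring K) i, Set.range (algebraMap A K) ⊆ (V : Set K) → (R i : Set K) ⊆ (V : Set K) → φ V - a i ∈ V)
    (hcov : ∀ V : ValuationSubring K, Set.range (algebraMap A K) ⊆ (V : Set K) → ∃ i, (R i : Set K) ⊆ V) :
    Solv φ (Set.range (algebraMap A K)) := by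
  classical
  haveI := RegLoc6.isDomain_of_isRegularLocalRing A
  by_contra hbad
  let A₀ : Set K := Set.range (algebraMap A K)
  let good : Pt K → Prop := fun P => A₀ ⊆ (P.S : Set K) ∧ ¬ Solv φ (P.S : Set K)
  have next' : ∀ P : Pt K, good P → ∃ Q : Pt K, good Q ∧ ∃ (hle : P.S ≤ Q.S),
      (∀ z : P.S, z ∈ maximalIdeal P.S → Subring.inclusion hle z ∈ maximalIdeal Q.S) ∧
      ∀ n d : P.S, Module.length P.S (P.S ⧸ Ideal.span {n, d}) ≠ ⊤ → Ideal.span {n, d} ≠ ⊤ →
        ∃ n' d' : Q.S, (n' : K) / (d' : K) = (n : K) / (d : K) ∧ (d ≠ 0 → d' ≠ 0) ∧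
          Module.length Q.S (Q.S ⧸ Ideal.span {n', d'}) < Module.length P.S (P.S ⧸ Ideal.span {n, d}) := by
    rintro P ⟨hP, hPbad⟩
    obtain ⟨x, y, h, q, hq, hxq, hdim, hq2⟩ := exists_bad_child (A := P.S) P.dim
      (fun V i hV => hφ V i (hP.trans ((range_algebraMap_subring P.S).ge.trans hV)))
      (fun V hV => hcov V (hP.trans ((range_algebraMap_subring P.S).ge.trans hV)))
      (by rwa [range_algebraMap_subring])
    haveI := hq
    haveI := isRegularLocalRing_stalk' K h q hxq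
    haveI := isFractionRing_stalk K q
    let Q : Pt K := ⟨stalk K q, hdim⟩
    have hle : P.S ≤ Q.S := fun z hz => range_le_stalk K q (⟨z, hz⟩ : P.S)
    refine ⟨Q, ⟨hP.trans hle, hq2⟩, hle, fun z hz => mem_nonunits_stalk K h hxq hz, fun n d hfin hnd => ?_⟩
    obtain ⟨n', d', e, hd', hlt⟩ := exists_transform K P.dim h q hxq n d hfin hnd
    exact ⟨n', d', e, fun hd h0 => hd' hd (by rw [h0]; rfl), hlt⟩
  haveI : IsRegularLocalRing (algebraMap A K).range :=
    IsRegularLocalRing.of_ringEquiv (RingEquiv.ofBijective (algebraMap A K).rangeRestrict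
      ⟨fun p q h => IsFractionRing.injective A K (congrArg Subtype.val h), (algebraMap A K).rangeRestrict_surjective⟩)
  haveI : IsFractionRing (algebraMap A K).range K := by
    refine { map_units := ?_, surj := ?_, exists_of_eq := ?_ }
    · rintro ⟨s, hs⟩
      exact IsUnit.mk0 _ fun h0 => nonZeroDivisors.ne_zero hs (Subtype.ext h0)
    · intro z
      obtain ⟨⟨r, s⟩, hs⟩ := IsLocalization.surj (nonZeroDivisors A) z
      exact ⟨⟨⟨_, r, rfl⟩, ⟨⟨_, (s : A), rfl⟩, mem_nonZeroDivisors_of_ne_zero fun h0 =>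
        algebraMap_ne K (nonZeroDivisors.ne_zero s.2) (congrArg Subtype.val h0)⟩⟩, hs⟩
    · intro p q hpq
      exact ⟨1, by rw [show p = q from Subtype.ext hpq]⟩
  let P₀ : Pt K := ⟨(algebraMap A K).range, by
    rw [← hA]
    exact (ringKrullDim_eq_of_ringEquiv (RingEquiv.ofBijective (algebraMap A K).rangeRestrict
      ⟨fun p q h => IsFractionRing.injective A K (congrArg Subtype.val h), (algebraMap A K).rangeRestrict_surjective⟩)).symm⟩
  have hgood₀ : good P₀ := ⟨subset_rfl, hbad⟩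
  choose f hf hle hmax hlen using next'
  let seq : ℕ → {P : Pt K // good P} := fun n => n.rec ⟨P₀, hgood₀⟩ fun _ P => ⟨f P.1 P.2, hf P.1 P.2⟩
  let S : ℕ → Subring K := fun n => (seq n).1.S
  have hstep : ∀ n, S n ≤ S (n + 1) := fun n => hle _ (seq n).2
  have hmono : Monotone S := monotone_nat_of_le_succ hstep
  -- a valuation ring dominating all of them
  let U : Subring K := ⨆ n, S n
  have hU : ∀ z, z ∈ U ↔ ∃ n, z ∈ S n := fun z => Subring.mem_iSup_of_directed hmono.directed_le
  have hm' : ∀ {m n : ℕ} (hmn : m ≤ n) (z : S m), z ∈ maximalIdeal (S m) →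
      Subring.inclusion (hmono hmn) z ∈ maximalIdeal (S n) := by
    intro m n hmn
    induction hmn with
    | refl => exact fun z hz => hz
    | step hmn ih => exact fun z hz => hmax _ (seq _).2 _ (ih z hz)
  let M : Ideal U :=
    { carrier := {z | ∃ (n : ℕ) (w : S n), w ∈ maximalIdeal (S n) ∧ (w : K) = z}
      zero_mem' := ⟨0, 0, zero_mem _, rfl⟩
      add_mem' := fun {p q} ⟨m, w, hw, ew⟩ ⟨n, w', hw', ew'⟩ =>
        ⟨max m n, Subring.inclusion (hmono (le_max_left m n)) w + Subring.inclusion (hmono (le_max_right m n)) w',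
          add_mem (hm' (le_max_left m n) w hw) (hm' (le_max_right m n) w' hw'), by rw [Subring.coe_add, Subring.coe_add, ← ew, ← ew']; rfl⟩
      smul_mem' := fun c p ⟨m, w, hw, ew⟩ => by
        obtain ⟨n, hn⟩ := (hU _).1 c.2
        refine ⟨max m n, Subring.inclusion (hmono (le_max_right m n)) ⟨c, hn⟩ * Subring.inclusion (hmono (le_max_left m n)) w,
          Ideal.mul_mem_left _ _ (hm' (le_max_left m n) w hw), ?_⟩
        rw [smul_eq_mul, Subring.coe_mul, Subring.coe_mul, ← ew]; rfl }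
  have hM : M ≠ ⊤ := fun h => by
    obtain ⟨n, w, hw, ew⟩ : (1 : U) ∈ M := h ▸ Submodule.mem_top
    exact (maximalIdeal.isMaximal (S n)).ne_top ((Ideal.eq_top_iff_one _).2 ((show w = 1 from Subtype.ext ew) ▸ hw))
  obtain ⟨V, hUV, hMV⟩ := Ideal.image_subset_nonunits_valuationSubring M hM
  have hSV : ∀ n, (S n : Set K) ⊆ (V : Set K) := fun n z hz => hUV ((hU z).2 ⟨n, hz⟩)
  -- every element of `V` lies in one of the rings
  have key : ∀ (L : ℕ) (n : ℕ) (p d : S n), d ≠ 0 → Module.length (S n) (S n ⧸ Ideal.span {p, d}) ≤ L →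
      (p : K) / (d : K) ∈ V → ∃ m, (p : K) / (d : K) ∈ S m := by
    intro L
    induction L using Nat.strong_induction_on with
    | _ L ih =>
      intro n p d hd hL hV
      by_cases htop : Ideal.span {p, d} = ⊤
      · refine ⟨n, ?_⟩
        by_cases hdu : IsUnit d
        · obtain ⟨w, rfl⟩ := hdu
          rw [div_eq_mul_inv, show ((w : S n) : K)⁻¹ = (((w⁻¹ : (S n)ˣ) : S n) : K) from
            inv_eq_of_mul_eq_one_right (congrArg Subtype.val w.mul_inv)]
          exact (S n).mul_mem p.2 (Subtype.property _)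
        · exfalso
          have hp : IsUnit p := by
            by_contra hpu
            refine (maximalIdeal.isMaximal (S n)).ne_top (top_le_iff.1 (htop.ge.trans (Ideal.span_le.2 ?_)))
            rintro z (rfl | rfl) <;> assumption
          obtain ⟨w, rfl⟩ := hp
          have hdM : (⟨(d : K), (hU _).2 ⟨n, d.2⟩⟩ : U) ∈ M := ⟨n, d, hdu, rfl⟩
          have hdV : (d : K) ∈ V.nonunits := hMV ⟨_, hdM, rfl⟩
          have hd0 : (d : K) ≠ 0 := fun h => hd (Subtype.ext h)
          refine (ValuationSubring.mem_nonunits_iff_exists_mem_maximalIdeal).1 hdV |>.elim fun hdv hdmax => hdmax ?_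
          refine isUnit_iff_exists_inv.2 ⟨⟨((w : S n) : K) / (d : K) * (((w⁻¹ : (S n)ˣ) : S n) : K),
            V.mul_mem _ _ hV (hSV n (Subtype.property _))⟩, Subtype.ext ?_⟩
          show (d : K) * (((w : S n) : K) / (d : K) * (((w⁻¹ : (S n)ˣ) : S n) : K)) = 1
          rw [← mul_assoc, mul_div_cancel₀ _ hd0]
          exact congrArg Subtype.val w.mul_inv
      · have hfin : Module.length (S n) (S n ⧸ Ideal.span {p, d}) ≠ ⊤ := ne_top_of_le_ne_top (ENat.coe_ne_top L) hL
        obtain ⟨p', d', e, hd', hlt⟩ := hlen _ (seq n).2 p d hfin htop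
        obtain ⟨L', hL'⟩ := ENat.ne_top_iff_exists.1 (ne_top_of_lt hlt)
        have hL'L : L' < L := by exact_mod_cast (hL'.trans_lt hlt).trans_le hL
        rw [← e] at hV ⊢
        exact ih L' hL'L (n + 1) p' d' (hd' hd) hL'.ge hV
  have hmem : ∀ z : K, z ∈ V → ∃ m, z ∈ S m := by
    intro z hz
    obtain ⟨hdom, hufd⟩ := RegDimTwo.ufd P₀.S P₀.dim
    haveI := hdom
    haveI := hufd
    obtain ⟨p, d, hpd, e⟩ := IsFractionRing.exists_reduced_fraction (A := P₀.S) (K := K) z
    have hd0 : (d : P₀.S) ≠ 0 := nonZeroDivisors.ne_zero d.2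
    have hz' : z = ((p : P₀.S) : K) / (((d : P₀.S)) : K) := by
      rw [← e, IsFractionRing.mk'_eq_div]
      rfl
    obtain ⟨L, hL⟩ := ENat.ne_top_iff_exists.1 (length_ne_top_of_isRelPrime P₀.dim hd0 hpd)
    rw [hz'] at hz ⊢
    exact key L 0 p d hd0 hL.ge hz
  obtain ⟨i, hi⟩ := hcov V ((hgood₀.1.trans (hSV 0)))
  choose m hm using fun z : {z // z ∈ R i} => hmem z.1 (hi z.2)
  obtain ⟨N, hN⟩ : ∃ N, ∀ z : {z // z ∈ R i}, m z ≤ N := ⟨Finset.univ.sup m, fun z => Finset.le_sup (Finset.mem_univ z)⟩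
  refine (seq N).2.2 ⟨-a i, fun W hW => ?_⟩
  rw [show -a i + φ W = φ W - a i by ring]
  exact hφ W i ((hgood₀.1.trans (hmono (Nat.zero_le N))).trans hW) fun z hz => hW (hmono (hN ⟨z, hz⟩) (hm ⟨z, hz⟩))

end Groth.Agent.RatSingReg
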