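import Groth.Agent.RatSingReg.Chain
import Groth.Agent.RatSingReg.CechSplit
import Groth.Agent.S9821
import Groth.Prelude.Def_Curv2
import Mathlib.AlgebraicGeometry.ValuativeCriterion

/-! A two-dimensional regular local ring defines a rational singularity. -/

noncomputable section

set_option linter.style.haveILetI false
set_option linter.unusedSectionVars false
set_option backward.isDefEq.respectTransparency false
set_option backward.isDefEq.respectTransparency.types false

universe u

open CategoryTheory CategoryTheory.Limits AlgebraicGeometry TopologicalSpace Opposite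

namespace Groth.Agent.RatSingReg

open Groth.Agent

theorem bijective_app_of_isIso {X Y : Scheme.{u}} (f : Y ⟶ X) (W : X.Opens) [IsIso (f ∣_ W)] {V : X.Opens} (hV : V ≤ W) :
    Function.Bijective (f.app V) := by
  have h : IsIso ((f ∣_ W).app (W.ι ⁻¹ᵁ V)) := inferInstance
  rw [morphismRestrict_app] at h
  haveI := @IsIso.of_isIso_comp_right _ _ _ _ _ _ _ _ h
  have hVe : W.ι ''ᵁ (W.ι ⁻¹ᵁ V) = V := by
    rw [Scheme.Hom.image_preimage_eq_opensRange_inf, Scheme.Opens.opensRange_ι, inf_eq_right.2 hV]
  exact hVe ▸ (ConcreteCategory.isIso_iff_bijective _).1 this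

variable {A : Type u} [CommRing A] {X : Scheme.{u}} [IsIntegral X] (f : X ⟶ Spec (CommRingCat.of A))

/-- The map from the base ring to the function field. -/
def toK : A →+* X.functionField :=
  (X.presheaf.germ ⊤ (genericPoint X) trivial).hom.comp
    ((Scheme.ΓSpecIso (CommRingCat.of A)).inv ≫ f.appTop).hom

theorem toK_eq (U : X.Opens) [Nonempty ↥U.toScheme] (r : A) :
    toK f r = X.germToFunctionField U (f.appLE ⊤ U le_top ((Scheme.ΓSpecIso (CommRingCat.of A)).inv r)) := by
  show _ = X.germToFunctionField U (X.presheaf.map (homOfLE le_top).op (f.appTop _))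
  haveI : Nonempty ↥(⊤ : X.Opens).toScheme := ⟨⟨genericPoint X, trivial⟩⟩
  rw [germ_res]
  rfl

theorem fromSpecStalk_comp_eq :
    X.fromSpecStalk (genericPoint X) ≫ f = Spec.map (CommRingCat.ofHom (toK f)) := by
  rw [← cancel_mono (Spec (CommRingCat.of A)).toSpecΓ, Category.assoc, Scheme.toSpecΓ_naturality,
    ← Category.assoc, Scheme.fromSpecStalk_toSpecΓ, ← Spec.map_comp, ← SpecMap_ΓSpecIso_hom, ← Spec.map_comp]
  congr 1
  rw [show CommRingCat.ofHom (toK f) = (Scheme.ΓSpecIso (CommRingCat.of A)).inv ≫ f.appTop ≫ X.presheaf.germ ⊤ (genericPoint X) trivial from rfl,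
    Iso.hom_inv_id_assoc]

theorem isFractionRing_toK [IsDomain A]
    (hbir : ∃ U : (Spec (CommRingCat.of A)).Opens, (U : Set (Spec (CommRingCat.of A))).Nonempty ∧ IsIso (f ∣_ U)) :
    letI := (toK f).toAlgebra
    IsFractionRing A X.functionField := by
  letI := (toK f).toAlgebra
  obtain ⟨U, ⟨p, hp⟩, hiso⟩ := hbir
  haveI := hiso
  obtain ⟨_, ⟨s, rfl⟩, hps, hsU⟩ :=
    PrimeSpectrum.isTopologicalBasis_basic_opens.exists_subset_of_mem_open hp U.2
  let t : Γ(Spec (CommRingCat.of A), ⊤) := (Scheme.ΓSpecIso (CommRingCat.of A)).inv s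
  let D : (Spec (CommRingCat.of A)).Opens := (Spec (CommRingCat.of A)).basicOpen t
  have hDeq : D = PrimeSpectrum.basicOpen s := basicOpen_eq_of_affine s
  replace hsU : D ≤ U := by rw [hDeq]; exact hsU
  replace hps : p ∈ D := by rw [hDeq]; exact hps
  have hs0 : s ≠ 0 := fun h => by
    rw [hDeq, h] at hps
    exact hps (zero_mem _)
  have hbij : Function.Bijective (f.app D) := bijective_app_of_isIso f U (V := D) hsU
  let W : X.Opens := f ⁻¹ᵁ D
  haveI : IsIso (f ∣_ U) := hiso
  haveI : Nonempty ↥W.toScheme := by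
    obtain ⟨⟨z, hz⟩, hzp⟩ := (f ∣_ U).surjective ⟨p, hp⟩
    refine ⟨⟨z, ?_⟩⟩
    have h1 : f z = p := by
      have := congrArg Subtype.val hzp
      rwa [morphismRestrict_base_coe] at this
    show f z ∈ D
    rw [h1]
    exact hps
  have hWaff : IsAffineOpen W := by
    haveI : IsIso (f ∣_ D) := by
      have h2 : IsIso ((f ∣_ U) ∣_ (U.ι ⁻¹ᵁ D)) := inferInstance
      refine ((MorphismProperty.isomorphisms Scheme).arrow_mk_iso_iff (morphismRestrictRestrict f U (U.ι ⁻¹ᵁ D) ≪≫ morphismRestrictEq f ?_)).1 h2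
      rw [Scheme.Hom.image_preimage_eq_opensRange_inf, Scheme.Opens.opensRange_ι, inf_eq_right.2 hsU]
    haveI : IsAffine D.toScheme := (isAffineOpen_top _).basicOpen t
    exact IsAffine.of_isIso (f ∣_ D)
  haveI : IsFractionRing Γ(X, W) X.functionField := functionField_isFractionRing_of_isAffineOpen X W hWaff
  haveI : IsLocalization.Away t Γ(Spec (CommRingCat.of A), D) := (isAffineOpen_top _).isLocalization_basicOpen t
  have hker : ∀ r : A, toK f r = 0 → r = 0 := by
    intro r hr
    rw [toK_eq f W r] at hr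
    have h1 := Scheme.germToFunctionField_injective X W (hr.trans (map_zero _).symm)
    have h2 : f.app D ((Spec (CommRingCat.of A)).presheaf.map (homOfLE le_top).op ((Scheme.ΓSpecIso (CommRingCat.of A)).inv r)) = f.app D 0 := by
      rw [map_zero]
      refine Eq.trans ?_ h1
      exact congr(($(f.naturality (homOfLE (le_top : D ≤ ⊤)).op)) _)
    have h3 : algebraMap Γ(Spec (CommRingCat.of A), ⊤) Γ(Spec (CommRingCat.of A), D)
        ((Scheme.ΓSpecIso (CommRingCat.of A)).inv r) = algebraMap Γ(Spec (CommRingCat.of A), ⊤) _ 0 := by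
      rw [map_zero]; exact hbij.1 h2
    obtain ⟨⟨_, n, rfl⟩, hn⟩ := (IsLocalization.eq_iff_exists (Submonoid.powers t) _).1 h3
    rw [mul_zero, show t ^ n * (Scheme.ΓSpecIso (CommRingCat.of A)).inv r =
      (Scheme.ΓSpecIso (CommRingCat.of A)).inv (s ^ n * r) by simp [t]] at hn
    have h4 := congrArg (Scheme.ΓSpecIso (CommRingCat.of A)).hom hn
    rw [Iso.inv_hom_id_apply, map_zero] at h4
    exact (mul_eq_zero.1 h4).resolve_left (pow_ne_zero n hs0)
  refine { map_units := ?_, surj := ?_, exists_of_eq := ?_ }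
  · rintro ⟨r, hr⟩
    exact IsUnit.mk0 _ fun h => nonZeroDivisors.ne_zero hr (hker r h)
  · have key : ∀ w : Γ(X, W), ∃ a b : A, b ≠ 0 ∧ X.germToFunctionField W w * toK f b = toK f a := by
      intro w
      obtain ⟨c, rfl⟩ := hbij.2 w
      obtain ⟨⟨a', b'⟩, hab⟩ := IsLocalization.surj (Submonoid.powers t) c
      obtain ⟨n, hn⟩ := b'.2
      refine ⟨(Scheme.ΓSpecIso (CommRingCat.of A)).hom a', s ^ n, pow_ne_zero n hs0, ?_⟩
      rw [toK_eq f W, toK_eq f W, ← map_mul]
      congr 1
      have e : ∀ r : Γ(Spec (CommRingCat.of A), ⊤), f.appLE ⊤ W le_top r =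
          f.app D (algebraMap Γ(Spec (CommRingCat.of A), ⊤) Γ(Spec (CommRingCat.of A), D) r) := fun r =>
        (congr(($(f.naturality (homOfLE (le_top : D ≤ ⊤)).op)) _)).symm
      rw [e, e, ← map_mul, Iso.hom_inv_id_apply, ← hab,
        show (b' : Γ(Spec (CommRingCat.of A), ⊤)) = (Scheme.ΓSpecIso (CommRingCat.of A)).inv (s ^ n) from by
          rw [map_pow]; exact hn.symm]
    intro z
    obtain ⟨⟨u, v⟩, huv⟩ := IsLocalization.surj (nonZeroDivisors Γ(X, W)) z
    obtain ⟨a, b, hb, hab⟩ := key u
    obtain ⟨c, d, hd, hcd⟩ := key v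
    have hc : c ≠ 0 := fun h => by
      rw [h, map_zero] at hcd
      rcases mul_eq_zero.1 hcd with h1 | h1
      · exact nonZeroDivisors.ne_zero v.2 (Scheme.germToFunctionField_injective X W (h1.trans (map_zero _).symm))
      · exact hd (hker d h1)
    refine ⟨⟨a * d, ⟨b * c, mem_nonZeroDivisors_of_ne_zero (mul_ne_zero hb hc)⟩⟩, ?_⟩
    show z * toK f (b * c) = toK f (a * d)
    rw [map_mul, map_mul, ← hab, ← hcd]
    have huv' : z * X.germToFunctionField W v = X.germToFunctionField W u := huv
    rw [← huv']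
    ring
  · intro p q hpq
    refine ⟨1, ?_⟩
    rw [show p = q from sub_eq_zero.1 (hker _ (by rw [map_sub, sub_eq_zero]; exact hpq))]

/-- Regular functions on affine opens containing the centre lie in the valuation ring. -/
theorem mem_of_centre {V : ValuationSubring X.functionField} (l : Spec (CommRingCat.of V) ⟶ X)
    (hl : Spec.map (CommRingCat.ofHom V.subtype) ≫ l = X.fromSpecStalk (genericPoint X))
    {U : X.Opens} (hU : IsAffineOpen U) [Nonempty ↥U.toScheme] (hlU : Set.range l ⊆ (U : Set X)) (w : Γ(X, U)) :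
    X.germToFunctionField U w ∈ V := by
  have hη : genericPoint X ∈ U := ((genericPoint_spec X).mem_open_set_iff U.2).2 (by
    obtain ⟨⟨z, hz⟩⟩ := ‹Nonempty ↥U.toScheme›
    exact ⟨z, trivial, hz⟩)
  let θ := Spec.preimage (IsOpenImmersion.lift hU.fromSpec l (by rwa [hU.range_fromSpec]))
  have hθ : Spec.map θ ≫ hU.fromSpec = l := by
    rw [Spec.map_preimage, IsOpenImmersion.lift_fac]
  have h2 : Spec.map (θ ≫ CommRingCat.ofHom V.subtype) = Spec.map (X.presheaf.germ U (genericPoint X) hη) := by
    rw [← cancel_mono hU.fromSpec, Spec.map_comp, Category.assoc, hθ, hl, ← hU.fromSpecStalk_eq_fromSpecStalk hη]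
    rfl
  have h3 : X.germToFunctionField U w = (θ w : V).1 := congr(($(Spec.map_injective h2)) w).symm
  rw [h3]
  exact (θ w).2

theorem exists_lift [IsProper f] (V : ValuationSubring X.functionField) (hV : ∀ r, toK f r ∈ V) :
    ∃ l : Spec (CommRingCat.of V) ⟶ X,
      Spec.map (CommRingCat.ofHom V.subtype) ≫ l = X.fromSpecStalk (genericPoint X) ∧
        l ≫ f = Spec.map (CommRingCat.ofHom ((toK f).codRestrict V hV)) := by
  have hE : ValuativeCriterion.Existence f := by
    have h : UniversallyClosed f := inferInstance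
    rw [UniversallyClosed.eq_valuativeCriterion] at h
    exact h.1
  let S : ValuativeCommSq f :=
    { R := V, K := X.functionField, i₁ := X.fromSpecStalk (genericPoint X)
      i₂ := Spec.map (CommRingCat.ofHom ((toK f).codRestrict V hV))
      commSq := ⟨by
        rw [fromSpecStalk_comp_eq, ← Spec.map_comp]
        rfl⟩ }
  obtain ⟨⟨l, hl₁, hl₂⟩⟩ := (hE S).exists_lift
  exact ⟨l, hl₁, hl₂⟩

theorem range_subset_of_closedPoint {V : ValuationSubring X.functionField} (l : Spec (CommRingCat.of V) ⟶ X)
    {U : X.Opens} (h : l (IsLocalRing.closedPoint V) ∈ U) : Set.range l ⊆ (U : Set X) := by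
  rintro _ ⟨z, rfl⟩
  exact ((IsLocalRing.specializes_closedPoint z).map l.continuous).mem_open U.2 h

theorem isRationalSing (A : Type u) [CommRing A] [IsRegularLocalRing A] (hdim : ringKrullDim A = 2) :
    Curv2.IsRationalSing A := by
  classical
  intro X f hp hi hn hbir
  haveI := hp
  haveI := hi
  haveI := RegLoc6.isDomain_of_isRegularLocalRing A
  letI : X.Over (Spec (CommRingCat.of A)) := ⟨f⟩
  haveI : X.IsSeparated := by
    constructor
    rw [← terminal.comp_from f]
    infer_instance
  letI : Algebra A X.functionField := (toK f).toAlgebra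
  haveI : IsFractionRing A X.functionField := isFractionRing_toK f hbir
  haveI : CompactSpace X := QuasiCompact.compactSpace_of_compactSpace f
  obtain ⟨ι, hfin, U, hU, hne, hcov⟩ : ∃ (ι : Type u) (_ : Finite ι) (U : ι → X.Opens), (∀ i, IsAffineOpen (U i)) ∧
      (∀ i, Nonempty ↥(U i).toScheme) ∧ ∀ x : X, ∃ i, x ∈ U i := by
    have h : ∀ x : X, ∃ U : X.Opens, IsAffineOpen U ∧ x ∈ U := fun x => by
      obtain ⟨_, ⟨U, hU, rfl⟩, hx, -⟩ := X.isBasis_affineOpens.exists_subset_of_mem_open (Set.mem_univ x) isOpen_univ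
      exact ⟨U, hU, hx⟩
    choose U hU hx using h
    obtain ⟨t, ht⟩ := isCompact_univ.elim_finite_subcover (fun x => (U x : Set X)) (fun x => (U x).2)
      fun x _ => Set.mem_iUnion.2 ⟨x, hx x⟩
    refine ⟨t, inferInstance, fun x => U x, fun x => hU x, fun x => ⟨⟨x.1, hx x.1⟩⟩, fun x => ?_⟩
    obtain ⟨y, hy, hxy⟩ := Set.mem_iUnion₂.1 (ht (Set.mem_univ x))
    exact ⟨⟨y, hy⟩, hxy⟩
  haveI := hne
  refine subsingleton_h1_of_split A U hU hcov fun e he hadd => ?_
  -- generators of the coordinate rings
  have hgen : ∀ i, ∃ R : Finset X.functionField, (∀ z ∈ R, Reg (U i) z) ∧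
      ∀ V : ValuationSubring X.functionField, (∀ r, toK f r ∈ V) → (R : Set X.functionField) ⊆ (V : Set X.functionField) →
        ∀ w : Γ(X, U i), X.germToFunctionField (U i) w ∈ V := by
    intro i
    let g := (Scheme.ΓSpecIso (CommRingCat.of A)).inv ≫ f.appLE ⊤ (U i) le_top
    have hg : g.hom.FiniteType :=
      (f.finiteType_appLE (isAffineOpen_top _) (hU i) le_top).comp (RingHom.FiniteType.of_surjective _
        (ConcreteCategory.bijective_of_isIso (Scheme.ΓSpecIso (CommRingCat.of A)).inv).2)
    letI := g.hom.toAlgebra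
    obtain ⟨G, hG⟩ := (show Algebra.FiniteType A Γ(X, U i) from hg).out
    refine ⟨G.image (X.germToFunctionField (U i)), fun z hz => ?_, fun V hA hR w => ?_⟩
    · obtain ⟨w, -, rfl⟩ := Finset.mem_image.1 hz
      exact ⟨inferInstance, w, rfl⟩
    · have hw : w ∈ Algebra.adjoin A (G : Set Γ(X, U i)) := hG ▸ Algebra.mem_top
      induction hw using Algebra.adjoin_induction with
      | mem w hw => exact hR (Finset.mem_image_of_mem _ hw)
      | algebraMap r =>
        have := hA r
        rwa [toK_eq f (U i)] at this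
      | add p q _ _ hp hq => rw [map_add]; exact V.add_mem _ _ hp hq
      | mul p q _ _ hp hq => rw [map_mul]; exact V.mul_mem _ _ hp hq
  choose R hRreg hR using hgen
  have hcentre : ∀ V : ValuationSubring X.functionField, Set.range (algebraMap A X.functionField) ⊆ (V : Set X.functionField) →
      ∃ (i : ι) (l : Spec (CommRingCat.of V) ⟶ X),
        Spec.map (CommRingCat.ofHom V.subtype) ≫ l = X.fromSpecStalk (genericPoint X) ∧ Set.range l ⊆ (U i : Set X) := by
    intro V hV
    obtain ⟨l, hl, -⟩ := exists_lift f V fun r => hV ⟨r, rfl⟩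
    obtain ⟨i, hi⟩ := hcov (l (IsLocalRing.closedPoint V))
    exact ⟨i, l, hl, range_subset_of_closedPoint l hi⟩
  obtain ⟨i₀, -⟩ := hcov (genericPoint X)
  let cen : ValuationSubring X.functionField → ι := fun V =>
    if h : Set.range (algebraMap A X.functionField) ⊆ (V : Set X.functionField) then (hcentre V h).choose else i₀
  have hφ : ∀ (V : ValuationSubring X.functionField) (j : ι), Set.range (algebraMap A X.functionField) ⊆ (V : Set X.functionField) →
      (R j : Set X.functionField) ⊆ (V : Set X.functionField) → e (cen V) i₀ - e j i₀ ∈ V := by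
    intro V j hV hj
    rw [show e (cen V) i₀ - e j i₀ = e (cen V) j by rw [hadd (cen V) j i₀, add_sub_cancel_right]]
    obtain ⟨l, hl, hlc⟩ := (hcentre V hV).choose_spec
    have hc : cen V = (hcentre V hV).choose := dif_pos hV
    rw [← hc] at hlc
    let θ : Γ(X, U j) →+* V := (X.germToFunctionField (U j)).hom.codRestrict V (hR j V (fun r => hV ⟨r, rfl⟩) hj)
    have hηj : genericPoint X ∈ U j := ((genericPoint_spec X).mem_open_set_iff (U j).2).2 (by
      obtain ⟨⟨z, hz⟩⟩ := hne j
      exact ⟨z, trivial, hz⟩)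
    let l' : Spec (CommRingCat.of V) ⟶ X := Spec.map (CommRingCat.ofHom θ) ≫ (hU j).fromSpec
    have hl' : Spec.map (CommRingCat.ofHom V.subtype) ≫ l' = X.fromSpecStalk (genericPoint X) := by
      rw [← Category.assoc, ← Spec.map_comp, ← (hU j).fromSpecStalk_eq_fromSpecStalk hηj]
      rfl
    haveI : IsDominant (Spec.map (CommRingCat.ofHom V.subtype)) :=
      ⟨(PrimeSpectrum.denseRange_comap_iff_ker_le_nilRadical (f := V.subtype)).2 (by
        rw [(RingHom.injective_iff_ker_eq_bot _).1 Subtype.val_injective]; exact bot_le)⟩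
    have hll : l = l' := ext_of_isDominant (Spec.map (CommRingCat.ofHom V.subtype)) (hl.trans hl'.symm)
    have hlj : Set.range l ⊆ (U j : Set X) := by
      rw [hll]
      rintro _ ⟨z, rfl⟩
      have := Set.mem_range_self (f := (hU j).fromSpec) (Spec.map (CommRingCat.ofHom θ) z)
      rw [(hU j).range_fromSpec] at this
      exact this
    obtain ⟨hne', w, hw⟩ := he (cen V) j
    haveI := hne'
    rw [← hw]
    haveI : IsAffineHom (pullback.diagonal (terminal.from X)) := inferInstance
    exact mem_of_centre l hl ((hU (cen V)).inf (hU j)) (fun z hz => ⟨hlc hz, hlj hz⟩) w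
  obtain ⟨g, hg⟩ := solv_main (A := A) (φ := fun V => e (cen V) i₀) (R := R) (a := fun j => e j i₀) hdim hφ fun V hV => by
    obtain ⟨i, l, hl, hli⟩ := hcentre V hV
    refine ⟨i, fun z hz => ?_⟩
    obtain ⟨hne', w, rfl⟩ := hRreg i z hz
    exact mem_of_centre l hl (hU i) hli w
  refine ⟨fun j => g + e j i₀, fun j => ?_, fun i j => by
    show e i j = (g + e i i₀) - (g + e j i₀)
    rw [hadd i j i₀]; ring⟩
  haveI := (S9821.result X).1 hn (U j) (hU j)
  haveI : IsFractionRing Γ(X, U j) X.functionField := functionField_isFractionRing_of_isAffineOpen X (U j) (hU j)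
  have hmem : g + e j i₀ ∈ (algebraMap Γ(X, U j) X.functionField).range := by
    haveI : IsIntegrallyClosedIn (algebraMap Γ(X, U j) X.functionField).range X.functionField := by
      rw [Subring.isIntegrallyClosedIn_iff]
      intro w hw
      letI : Algebra Γ(X, U j) (algebraMap Γ(X, U j) X.functionField).range :=
        (algebraMap Γ(X, U j) X.functionField).rangeRestrict.toAlgebra
      haveI : IsScalarTower Γ(X, U j) (algebraMap Γ(X, U j) X.functionField).range X.functionField :=
        IsScalarTower.of_algebraMap_eq fun _ => rfl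
      haveI : Algebra.IsIntegral Γ(X, U j) (algebraMap Γ(X, U j) X.functionField).range := ⟨fun r => by
        obtain ⟨a, rfl⟩ := (algebraMap Γ(X, U j) X.functionField).rangeRestrict_surjective r
        exact isIntegral_algebraMap⟩
      have : IsIntegral Γ(X, U j) w :=
        isIntegral_trans (R := Γ(X, U j)) (A := (algebraMap Γ(X, U j) X.functionField).range) w hw
      obtain ⟨a, rfl⟩ := IsIntegrallyClosed.isIntegral_iff.1 this
      exact ⟨a, rfl⟩
    rw [Subring.eq_iInf_of_isIntegrallyClosedIn (R := (algebraMap Γ(X, U j) X.functionField).range), Subring.mem_iInf]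
    rintro ⟨V, hV⟩
    have hA : Set.range (algebraMap A X.functionField) ⊆ (V : Set X.functionField) := by
      rintro _ ⟨r, rfl⟩
      exact hV ⟨_, (toK_eq f (U j) r).symm⟩
    have hj : (R j : Set X.functionField) ⊆ (V : Set X.functionField) := fun z hz => by
      obtain ⟨hne', w, rfl⟩ := hRreg j z hz
      exact hV ⟨w, rfl⟩
    show g + e j i₀ ∈ V
    rw [show g + e j i₀ = (g + e (cen V) i₀) - (e (cen V) i₀ - e j i₀) by ring]
    exact sub_mem (hg V hA) (hφ V j hA hj)
  obtain ⟨w, hw⟩ := hmem
  exact ⟨inferInstance, w, hw⟩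

end Groth.Agent.RatSingReg
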