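import Groth.Agent.RatSingReg.Chart

/-! The overlap of the two standard charts and the key surjection for transforms of an ideal. -/

noncomputable section

set_option linter.style.haveILetI false
set_option linter.unusedSectionVars false

universe u

open Polynomial IsLocalRing

namespace Groth.Agent.RatSingReg

open Groth.Agent

variable {A : Type u} [CommRing A] [IsRegularLocalRing A]
variable (K : Type u) [Field K] [Algebra A K] [IsFractionRing A K]

local notation "ι'" => algebraMap A K

theorem mem_range_of_forall {z : K}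
    (hz : ∀ V : ValuationSubring K, Set.range (algebraMap A K) ⊆ (V : Set K) → z ∈ V) :
    z ∈ Set.range (algebraMap A K) := by
  haveI := RegLoc6.isDomain_of_isRegularLocalRing A
  haveI := RegLoc6.isIntegrallyClosed_of_isRegularLocalRing A
  haveI : IsIntegrallyClosedIn (algebraMap A K).range K := by
    rw [Subring.isIntegrallyClosedIn_iff]
    intro w hw
    letI : Algebra A (algebraMap A K).range := (algebraMap A K).rangeRestrict.toAlgebra
    haveI : IsScalarTower A (algebraMap A K).range K := IsScalarTower.of_algebraMap_eq fun _ => rfl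
    haveI : Algebra.IsIntegral A (algebraMap A K).range := ⟨fun r => by
      obtain ⟨a, rfl⟩ := (algebraMap A K).rangeRestrict_surjective r
      exact isIntegral_algebraMap⟩
    have : IsIntegral A w := isIntegral_trans (R := A) (A := (algebraMap A K).range) w hw
    obtain ⟨a, rfl⟩ := IsIntegrallyClosed.isIntegral_iff.1 this
    exact ⟨a, rfl⟩
  show z ∈ (algebraMap A K).range
  rw [Subring.eq_iInf_of_isIntegrallyClosedIn (R := (algebraMap A K).range), Subring.mem_iInf]
  exact fun V => hz V.1 (fun w hw => V.2 hw)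

variable {x y : A}

theorem frac_mul_frac (h : Params x y) : frac K x y * frac K y x = 1 := by
  unfold frac
  field_simp [algebraMap_ne K h.xne, algebraMap_ne K h.yne]

theorem frac_ne (h : Params x y) : frac K x y ≠ 0 := left_ne_zero_of_mul_eq_one (frac_mul_frac K h)

theorem chart_le {x y : A} {V : ValuationSubring K} (hA : Set.range (algebraMap A K) ⊆ (V : Set K))
    (hu : frac K x y ∈ V) : (chart K x y : Set K) ⊆ (V : Set K) := by
  rintro _ ⟨P, rfl⟩
  show aeval (frac K x y) P ∈ V
  induction P using Polynomial.induction_on' with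
  | add p q hp hq => rw [map_add]; exact V.add_mem _ _ hp hq
  | monomial n a =>
    rw [aeval_monomial]
    exact V.mul_mem _ _ (hA ⟨a, rfl⟩) (pow_mem hu n)

theorem frac_mem_or (h : Params x y) (V : ValuationSubring K) : frac K x y ∈ V ∨ frac K y x ∈ V := by
  rcases V.mem_or_inv_mem (frac K x y) with h1 | h1
  · exact Or.inl h1
  · refine Or.inr ?_
    rwa [show (frac K x y)⁻¹ = frac K y x from inv_eq_of_mul_eq_one_right (frac_mul_frac K h)] at h1

theorem mem_range_of_mem_charts (h : Params x y) {z : K} (h1 : z ∈ chart K x y) (h2 : z ∈ chart K y x) :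
    z ∈ Set.range (algebraMap A K) := by
  refine mem_range_of_forall K fun V hV => ?_
  rcases frac_mem_or K h V with hu | hu
  · exact chart_le K hV hu h1
  · exact chart_le K hV hu h2

variable (x y)

/-- The coordinate ring of the overlap of the two charts. -/
def overlap : Subring K where
  carrier := {z | ∃ m : ℕ, frac K x y ^ m * z ∈ chart K x y}
  one_mem' := ⟨0, by simpa using one_mem _⟩
  zero_mem' := ⟨0, by simpa using zero_mem _⟩
  neg_mem' := fun ⟨m, hm⟩ => ⟨m, by rw [mul_neg]; exact neg_mem hm⟩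
  add_mem' := fun {z w} ⟨m, hm⟩ ⟨n, hn⟩ => ⟨m + n, by
    rw [show frac K x y ^ (m + n) * (z + w) =
      frac K x y ^ n * (frac K x y ^ m * z) + frac K x y ^ m * (frac K x y ^ n * w) by rw [pow_add]; ring]
    exact add_mem (mul_mem (pow_mem (frac_mem_chart K) n) hm) (mul_mem (pow_mem (frac_mem_chart K) m) hn)⟩
  mul_mem' := fun {z w} ⟨m, hm⟩ ⟨n, hn⟩ => ⟨m + n, by
    rw [show frac K x y ^ (m + n) * (z * w) = (frac K x y ^ m * z) * (frac K x y ^ n * w) by rw [pow_add]; ring]
    exact mul_mem hm hn⟩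

variable {x y}

theorem chart_le_overlap : chart K x y ≤ overlap K x y := fun z hz => ⟨0, by simpa using hz⟩

theorem inv_frac_mem_overlap (h : Params x y) : frac K y x ∈ overlap K x y :=
  ⟨1, by rw [pow_one, frac_mul_frac K h]; exact one_mem _⟩

theorem chart_symm_le_overlap (h : Params x y) : chart K y x ≤ overlap K x y := by
  rintro _ ⟨P, rfl⟩
  show aeval (frac K y x) P ∈ overlap K x y
  induction P using Polynomial.induction_on' with
  | add p q hp hq => rw [map_add]; exact add_mem hp hq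
  | monomial n a =>
    rw [aeval_monomial]
    exact mul_mem (chart_le_overlap K (algebraMap_mem_chart K a)) (pow_mem (inv_frac_mem_overlap K h) n)

/-- Every element of the overlap is a sum of elements of the two charts. -/
theorem exists_split (h : Params x y) {z : K} (hz : z ∈ overlap K x y) :
    ∃ z₁ ∈ chart K x y, ∃ z₂ ∈ chart K y x, z = z₁ + z₂ := by
  obtain ⟨m, hm⟩ := hz
  induction m generalizing z with
  | zero => exact ⟨z, by simpa using hm, 0, zero_mem _, (add_zero z).symm⟩
  | succ m ih =>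
    obtain ⟨P, hP⟩ := hm
    have e : aeval (frac K x y) P = frac K x y * aeval (frac K x y) P.divX + ι' (P.coeff 0) := by
      conv_lhs => rw [← P.divX_mul_X_add]
      rw [map_add, map_mul, aeval_X, aeval_C, mul_comm]
    have h1 : (frac K x y * frac K y x) ^ (m + 1) = 1 := by rw [frac_mul_frac K h, one_pow]
    obtain ⟨z₁, hz₁, z₂, hz₂, e'⟩ := ih (z := z - ι' (P.coeff 0) * frac K y x ^ (m + 1)) ⟨P.divX, by
      refine mul_left_cancel₀ (frac_ne K h) ?_
      have hP' : aeval (frac K x y) P = frac K x y ^ (m + 1) * z := hP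
      show frac K x y * aeval (frac K x y) P.divX = _
      rw [← mul_assoc, ← pow_succ']
      rw [mul_pow] at h1
      linear_combination hP' - e + ι' (P.coeff 0) * h1⟩
    refine ⟨z₁, hz₁, z₂ + ι' (P.coeff 0) * frac K y x ^ (m + 1),
      add_mem hz₂ (mul_mem (algebraMap_mem_chart K _) (pow_mem (frac_mem_chart K) _)), ?_⟩
    linear_combination e'

theorem mem_overlap_of_forall (h : Params x y) {z : K}
    (hz : ∀ V : ValuationSubring K, (chart K x y : Set K) ⊆ (V : Set K) → (chart K y x : Set K) ⊆ (V : Set K) → z ∈ V) :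
    z ∈ overlap K x y := by
  obtain ⟨m, hm⟩ := exists_pow_mul (B := (chart K x y : Set K)) (h := frac K x y) (frac_mem_chart K)
    (frac_ne K h) (x := z) fun V hV hinv => hz V hV (chart_le K (fun w hw => by
      obtain ⟨a, rfl⟩ := hw
      exact hV (algebraMap_mem_chart K a)) (by
        rwa [show (frac K x y)⁻¹ = frac K y x from inv_eq_of_mul_eq_one_right (frac_mul_frac K h)] at hinv))
  exact ⟨m, mem_chart_of_forall K h hm⟩

theorem exists_normal_form (P : A[X]) (hP : ∃ i, P.coeff i ∉ maximalIdeal A) :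
    ∃ (n : ℕ) (c : A) (G : A[X]), c ∉ maximalIdeal A ∧
      P - X ^ n * (C c + X * G) ∈ (maximalIdeal A).map (C : A →+* A[X]) := by
  induction P using Polynomial.recOnHorner with
  | M0 => simp at hP
  | MC p a h0 ha ih =>
    by_cases h : a ∈ maximalIdeal A
    · obtain ⟨n, c, G, hc, hG⟩ := ih (by
        obtain ⟨i, hi⟩ := hP
        refine ⟨i, fun hp => hi ?_⟩
        rw [coeff_add, coeff_C]
        exact Ideal.add_mem _ hp (by split <;> simp [h]))
      refine ⟨n, c, G, hc, ?_⟩
      rw [show p + C a - X ^ n * (C c + X * G) = (p - X ^ n * (C c + X * G)) + C a by ring]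
      exact Ideal.add_mem _ hG (Ideal.mem_map_of_mem _ h)
    · refine ⟨0, a, p.divX, h, ?_⟩
      have e : p = p.divX * X := by
        conv_lhs => rw [← p.divX_mul_X_add, h0, map_zero, add_zero]
      rw [show p + C a - X ^ 0 * (C a + X * p.divX) = p - p.divX * X by ring, ← e, sub_self]
      exact zero_mem _
  | MX p hp ih =>
    obtain ⟨n, c, G, hc, hG⟩ := ih (by
      obtain ⟨i, hi⟩ := hP
      rcases i with _ | i
      · simp at hi
      · exact ⟨i, by simpa using hi⟩)
    refine ⟨n + 1, c, G, hc, ?_⟩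
    rw [show p * X - X ^ (n + 1) * (C c + X * G) = X * (p - X ^ n * (C c + X * G)) by ring]
    exact Ideal.mul_mem_left _ _ hG

theorem exists_one_add_pow (c : A) (G : A[X]) (M : ℕ) :
    ∃ G' : A[X], (C c + X * G) ^ M = C (c ^ M) + X * G' := by
  induction M with
  | zero => exact ⟨0, by simp⟩
  | succ M ih =>
    obtain ⟨G', hG'⟩ := ih
    exact ⟨C (c ^ M) * G + G' * (C c + X * G), by rw [pow_succ, hG', pow_succ, map_mul]; ring⟩

theorem isUnit_of_notMem {c : A} (hc : c ∉ maximalIdeal A) : IsUnit c :=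
  not_not.1 fun h => hc ((mem_maximalIdeal c).2 h)

/-- For an `m`-primary `(a, b) ⊆ m^r` with `(a, b) ⊄ m^(r+1)`, every element of the chart is congruent,
modulo the transform of `(a, b)`, to `h / x^r` for some `h ∈ m^r`. -/
theorem exists_congr (hA : ringKrullDim A = 2) (h : Params x y) {a b : A} {r N : ℕ}
    (ha : a ∈ maximalIdeal A ^ r) (hb : b ∈ maximalIdeal A ^ r)
    (hr : a ∉ maximalIdeal A ^ (r + 1) ∨ b ∉ maximalIdeal A ^ (r + 1))
    (hN : maximalIdeal A ^ N ≤ Ideal.span {a, b}) (w : K) (hw : w ∈ chart K x y) :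
    ∃ c ∈ maximalIdeal A ^ r, ∃ p ∈ chart K x y, ∃ q ∈ chart K x y,
      w = ι' c / ι' x ^ r + (ι' a / ι' x ^ r) * p + (ι' b / ι' x ^ r) * q := by
  have hs := h.symm hA
  set u := frac K x y
  set v := frac K y x
  have huv : u * v = 1 := frac_mul_frac K h
  have hX0 : ι' x ≠ 0 := algebraMap_ne K h.xne
  have hY0 : ι' y ≠ 0 := algebraMap_ne K h.yne
  have hyx : ι' y = ι' x * u := (mul_frac K h).symm
  obtain ⟨Pa, -, hPa⟩ := exists_form K hs r a ha
  obtain ⟨Pb, -, hPb⟩ := exists_form K hs r b hb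
  -- work in the chart at `y`
  let By := chart K y x
  let π : A[X] →+* By := present K y x
  let yB : By := toChart K (x := y) (y := x) y
  let I : Ideal By := Ideal.span {π Pa, π Pb}
  have hyI : yB ^ N ∈ I := by
    obtain ⟨p, q, hpq⟩ := Ideal.mem_span_pair.1 (hN (Ideal.pow_mem_pow h.ymem N))
    have e : yB ^ N = yB ^ r * (toChart K (x := y) (y := x) p * π Pa + toChart K (x := y) (y := x) q * π Pb) := by
      refine Subtype.ext ?_
      simp only [Subring.coe_mul, Subring.coe_add, Subring.coe_pow, yB, coe_toChart]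
      show ι' y ^ N = ι' y ^ r * (ι' p * aeval (frac K y x) Pa + ι' q * aeval (frac K y x) Pb)
      rw [← map_pow, ← hpq, map_add, map_mul, map_mul, hPa, hPb]
      ring
    rw [e]
    exact Ideal.mul_mem_left _ _ (Ideal.add_mem _
      (Ideal.mul_mem_left _ _ (Ideal.subset_span (Set.mem_insert _ _)))
      (Ideal.mul_mem_left _ _ (Ideal.subset_span (Set.mem_insert_of_mem _ rfl))))
  have hunit : ∃ P : A[X], π P ∈ I ∧ ∃ i, P.coeff i ∉ maximalIdeal A := by
    by_contra hne
    push Not at hne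
    have hall : ∀ (t : A) (P : A[X]), π P ∈ I → ι' t = ι' y ^ r * aeval (frac K y x) P → P.natDegree ≤ r →
        t ∈ maximalIdeal A ^ (r + 1) := fun t P hPI e hP => by
      obtain ⟨t', ht', e'⟩ := exists_of_natDegree_le K hs _ r P hP (hne P hPI)
      rw [← IsFractionRing.injective A K (e'.trans e.symm)]
      rwa [pow_succ']
    obtain ⟨Qa, hQa, hQa'⟩ := exists_form K hs r a ha
    obtain ⟨Qb, hQb, hQb'⟩ := exists_form K hs r b hb
    have hQaI : π Qa ∈ I := by
      rw [show π Qa = π Pa from Subtype.ext (mul_left_cancel₀ (pow_ne_zero r hY0) (hQa'.symm.trans hPa))]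
      exact Ideal.subset_span (Set.mem_insert _ _)
    have hQbI : π Qb ∈ I := by
      rw [show π Qb = π Pb from Subtype.ext (mul_left_cancel₀ (pow_ne_zero r hY0) (hQb'.symm.trans hPb))]
      exact Ideal.subset_span (Set.mem_insert_of_mem _ rfl)
    rcases hr with hr | hr
    · exact hr (hall a Qa hQaI hQa' hQa)
    · exact hr (hall b Qb hQbI hQb' hQb)
  obtain ⟨P, hPI, hP⟩ := hunit
  obtain ⟨n, c, G, hc, hG⟩ := exists_normal_form P hP
  have hlow : π (P - X ^ n * (C c + X * G)) ∈ Ideal.span {yB} := by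
    rw [show Ideal.span {yB} = _ from map_maximalIdeal_chart K hs, toChart, ← Ideal.map_map]
    exact Ideal.mem_map_of_mem _ hG
  obtain ⟨G', hG'⟩ := exists_one_add_pow c G N
  have heI : π (X ^ (n * N) * (C (c ^ N) + X * G')) ∈ I := by
    rw [← hG', pow_mul, ← mul_pow, map_pow]
    obtain ⟨t, ht⟩ := Ideal.mem_span_singleton'.1 hlow
    rw [map_sub, eq_sub_iff_add_eq] at ht
    have e : π (X ^ n * (C c + X * G)) = π P + (-t) * yB := by linear_combination ht
    rw [← Ideal.Quotient.eq_zero_iff_mem, map_pow, e, map_add, map_mul, Ideal.Quotient.eq_zero_iff_mem.2 hPI, zero_add,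
      mul_pow, ← map_pow, ← map_pow, Ideal.Quotient.eq_zero_iff_mem.2 hyI, mul_zero]
  obtain ⟨p, q, hpq⟩ := Ideal.mem_span_pair.1 heI
  obtain ⟨e, he⟩ := (isUnit_of_notMem hc).pow N
  -- in the overlap
  have hO : chart K y x ≤ overlap K x y := chart_symm_le_overlap K h
  have hvn : ∀ j : ℕ, u ^ j * v ^ j = 1 := fun j => by rw [← mul_pow, huv, one_pow]
  have he' : ι' (↑e⁻¹ : A) * ι' (c ^ N) = 1 := by rw [← map_mul, ← he, Units.inv_mul, map_one]
  set a' := ι' a / ι' x ^ r
  set b' := ι' b / ι' x ^ r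
  have haP : a' * v ^ r = aeval v Pa := by
    rw [div_mul_eq_mul_div, div_eq_iff (pow_ne_zero r hX0), hPa, hyx, mul_pow]
    linear_combination (ι' x ^ r * aeval v Pa) * hvn r
  have hbP : b' * v ^ r = aeval v Pb := by
    rw [div_mul_eq_mul_div, div_eq_iff (pow_ne_zero r hX0), hPb, hyx, mul_pow]
    linear_combination (ι' x ^ r * aeval v Pb) * hvn r
  have hkey : v ^ (n * N) * (ι' (c ^ N) + v * aeval v G') = (p : K) * aeval v Pa + (q : K) * aeval v Pb := by
    have := congrArg (fun z : By => (z : K)) hpq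
    simp only [Subring.coe_mul, Subring.coe_add] at this
    refine Eq.trans ?_ this.symm
    show _ = aeval (frac K y x) _
    simp only [map_mul, map_pow, map_add, aeval_X, aeval_C]
    rfl
  set g : K := - (ι' (↑e⁻¹ : A) * aeval v G')
  have hgB : g ∈ chart K y x := neg_mem (mul_mem (algebraMap_mem_chart K _) ⟨G', rfl⟩)
  obtain ⟨αa, hαa, αb, hαb, hdiff⟩ : ∃ αa ∈ overlap K x y, ∃ αb ∈ overlap K x y, u - g = a' * αa + b' * αb := by
    have hu : u ∈ overlap K x y := chart_le_overlap K (frac_mem_chart K)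
    have hv : v ∈ overlap K x y := inv_frac_mem_overlap K h
    have hi : ι' (↑e⁻¹ : A) ∈ overlap K x y := hO (algebraMap_mem_chart K _)
    refine ⟨u ^ (n * N + 1) * ι' (↑e⁻¹ : A) * v ^ r * p,
      mul_mem (mul_mem (mul_mem (pow_mem hu _) hi) (pow_mem hv _)) (hO p.2),
      u ^ (n * N + 1) * ι' (↑e⁻¹ : A) * v ^ r * q,
      mul_mem (mul_mem (mul_mem (pow_mem hu _) hi) (pow_mem hv _)) (hO q.2), ?_⟩
    have h2 := hvn (n * N)
    have h3 : u ^ (n * N + 1) = u * u ^ (n * N) := pow_succ' _ _
    rw [h3]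
    linear_combination (u * u ^ (n * N) * ι' (↑e⁻¹ : A)) * hkey + (u * u ^ (n * N) * ι' (↑e⁻¹ : A) * (-(p : K))) * haP
      + (u * u ^ (n * N) * ι' (↑e⁻¹ : A) * (-(q : K))) * hbP
      + (-(u * ι' (↑e⁻¹ : A) * (ι' (c ^ N) + v * aeval v G'))) * h2 + (-u) * he'
      + (-(ι' (↑e⁻¹ : A) * aeval v G')) * huv
  obtain ⟨W, rfl⟩ := hw
  -- congruence in the overlap
  let O := overlap K x y
  let uO : O := ⟨u, chart_le_overlap K (frac_mem_chart K)⟩
  let gO : O := ⟨g, hO hgB⟩
  let jA : A →+* O := (algebraMap A K).codRestrict _ fun s => hO (algebraMap_mem_chart K s)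
  obtain ⟨t, ht⟩ := Polynomial.sub_dvd_eval_sub uO gO (W.map jA)
  have hev : ∀ (z : O), (((W.map jA).eval z : O) : K) = aeval (z : K) W := fun z => by
    rw [eval_map, show ((eval₂ jA z W : O) : K) = O.subtype (eval₂ jA z W) from rfl, Polynomial.hom_eval₂, aeval_def]
    rfl
  have htK : aeval u W - aeval g W = (u - g) * (t : K) := by
    have := congrArg (fun z : O => (z : K)) ht
    simpa only [AddSubgroupClass.coe_sub, Subring.coe_mul, hev] using this
  obtain ⟨pa, hpa, pa₂, hpa₂, epa⟩ := exists_split K h (mul_mem hαa t.2)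
  obtain ⟨pb, hpb, pb₂, hpb₂, epb⟩ := exists_split K h (mul_mem hαb t.2)
  set v₀ : K := v ^ r * aeval g W
  have hv₀ : v₀ ∈ chart K y x := by
    refine mul_mem (pow_mem (frac_mem_chart K) r) ?_
    clear ht htK hev v₀
    induction W using Polynomial.induction_on' with
    | add p q hp hq => rw [map_add]; exact add_mem hp hq
    | monomial j s => rw [aeval_monomial]; exact mul_mem (algebraMap_mem_chart K _) (pow_mem hgB j)
  have h2r := hvn r
  set z : K := ι' x ^ r * (aeval u W - a' * pa - b' * pb)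
  have hz2 : z = ι' y ^ r * (v₀ + aeval v Pa * pa₂ + aeval v Pb * pb₂) := by
    simp only [z, v₀]
    rw [hyx, mul_pow]
    linear_combination (ι' x ^ r) * htK + (ι' x ^ r * (t : K)) * hdiff + (ι' x ^ r * a') * epa + (ι' x ^ r * b') * epb
      + (-(ι' x ^ r * (aeval g W + a' * pa₂ + b' * pb₂))) * h2r
      + (ι' x ^ r * u ^ r * pa₂) * haP + (ι' x ^ r * u ^ r * pb₂) * hbP
  have hA' : ∀ t : A, t ∈ maximalIdeal A ^ r → ι' t / ι' x ^ r ∈ chart K x y := fun t ht => by
    obtain ⟨B₁, hB₁, e₁⟩ := (mem_pow_iff K h r t).1 ht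
    rwa [show ι' t / ι' x ^ r = B₁ from by rw [div_eq_iff (pow_ne_zero r hX0), e₁, mul_comm]]
  obtain ⟨s, hs'⟩ : z ∈ Set.range (algebraMap A K) := mem_range_of_mem_charts K h
    (mul_mem (pow_mem (algebraMap_mem_chart K x) r)
      (sub_mem (sub_mem ⟨W, rfl⟩ (mul_mem (hA' a ha) hpa)) (mul_mem (hA' b hb) hpb)))
    (by
      rw [hz2]
      exact mul_mem (pow_mem (algebraMap_mem_chart K y) r)
        (add_mem (add_mem hv₀ (mul_mem ⟨Pa, rfl⟩ hpa₂)) (mul_mem ⟨Pb, rfl⟩ hpb₂)))
  have hsm : s ∈ maximalIdeal A ^ r := (mem_pow_iff K h r s).2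
    ⟨aeval u W - a' * pa - b' * pb, sub_mem (sub_mem ⟨W, rfl⟩ (mul_mem (hA' a ha) hpa)) (mul_mem (hA' b hb) hpb), hs'⟩
  refine ⟨s, hsm, pa, hpa, pb, hpb, ?_⟩
  rw [hs']
  simp only [z]
  rw [mul_div_cancel_left₀ _ (pow_ne_zero r hX0)]
  show aeval u W = _
  ring

end Groth.Agent.RatSingReg
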