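import Groth.Agent.RatSingReg.Overlap
import Mathlib.RingTheory.Length
import Mathlib.RingTheory.Filtration
import Mathlib.RingTheory.Ideal.KrullsHeightTheorem

/-! The local rings of the blowing up at points of the exceptional divisor, and the drop of the colength
of the transform of an ideal generated by two elements. -/

noncomputable section

set_option linter.style.haveILetI false
set_option linter.unusedSectionVars false

universe u

open Polynomial IsLocalRing

namespace Groth.Agent.RatSingReg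

open Groth.Agent

variable {A : Type u} [CommRing A] [IsRegularLocalRing A]
variable (K : Type u) [Field K] [Algebra A K] [IsFractionRing A K]

local notation "ι'" => algebraMap A K

variable {x y : A}

/-- The local ring of the chart at a prime. -/
abbrev stalk (q : Ideal (chart K x y)) [q.IsPrime] : Subring K := (LocalSubring.ofPrime (chart K x y) q).toSubring

theorem toChart_ne (h : Params x y) : toChart K (x := x) (y := y) x ≠ 0 := fun h0 =>
  algebraMap_ne K h.xne (by rw [← coe_toChart K (x := x) (y := y), h0]; rfl)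

theorem isRegularLocalRing_stalk' (h : Params x y) (q : Ideal (chart K x y)) [q.IsPrime]
    (hq : toChart K (x := x) (y := y) x ∈ q) : IsRegularLocalRing (stalk K q) := by
  haveI := isPrincipalIdealRing_quot_chart K h
  haveI := PointBlowUp.isRegularLocalRing_of_principal_quot q _ (toChart_ne K h) hq (isPrime_span_chart K h)
  exact IsRegularLocalRing.of_ringEquiv (LocalSubring.ofPrimeEquiv (chart K x y) q).toRingEquiv

theorem ringKrullDim_stalk_le (h : Params x y) (q : Ideal (chart K x y)) [q.IsPrime]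
    (hq : toChart K (x := x) (y := y) x ∈ q) : ringKrullDim (stalk K q) ≤ 2 := by
  haveI := isRegularLocalRing_stalk' K h q hq
  haveI := isPrincipalIdealRing_quot_chart K h
  let t := toChart K (x := x) (y := y) x
  obtain ⟨g, hg⟩ := (IsPrincipalIdealRing.principal (q.map (Ideal.Quotient.mk (Ideal.span {t})))).principal
  obtain ⟨g, rfl⟩ := Ideal.Quotient.mk_surjective g
  have hq' : q = Ideal.span {g, t} := by
    have h1 : q.map (Ideal.Quotient.mk (Ideal.span {t})) = (Ideal.span {g}).map (Ideal.Quotient.mk (Ideal.span {t})) := by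
      rw [hg, Ideal.map_span, Set.image_singleton]
    have h2 := congrArg (Ideal.comap (Ideal.Quotient.mk (Ideal.span {t}))) h1
    rw [Ideal.comap_map_of_surjective _ Ideal.Quotient.mk_surjective,
      Ideal.comap_map_of_surjective _ Ideal.Quotient.mk_surjective, ← RingHom.ker_eq_comap_bot, Ideal.mk_ker,
      sup_eq_left.2 ((Ideal.span_singleton_le_iff_mem _).2 hq)] at h2
    rw [h2, Ideal.span_insert]
  have hm : maximalIdeal (stalk K q) =
      Ideal.span {algebraMap (chart K x y) (stalk K q) g, algebraMap (chart K x y) (stalk K q) t} := by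
    rw [← IsLocalization.AtPrime.map_eq_maximalIdeal q]
    exact (congrArg (Ideal.map _) hq').trans (by rw [Ideal.map_span, Set.image_pair])
  refine (ringKrullDim_le_spanFinrank_maximalIdeal (R := stalk K q)).trans ?_
  have h3 : (maximalIdeal (stalk K q)).spanFinrank ≤ 2 := by
    rw [hm]
    exact (Submodule.spanFinrank_span_le_ncard_of_finite (by simp)).trans
      ((Set.ncard_insert_le _ _).trans (by rw [Set.ncard_singleton]))
  exact_mod_cast h3

theorem range_le_stalk (q : Ideal (chart K x y)) [q.IsPrime] (a : A) : ι' a ∈ stalk K q :=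
  LocalSubring.le_ofPrime _ _ (algebraMap_mem_chart K a)

theorem isFractionRing_stalk (q : Ideal (chart K x y)) [q.IsPrime] : IsFractionRing (stalk K q) K := by
  haveI := RegLoc6.isDomain_of_isRegularLocalRing A
  refine { map_units := ?_, surj := ?_, exists_of_eq := ?_ }
  · rintro ⟨s, hs⟩
    exact IsUnit.mk0 _ fun h0 => nonZeroDivisors.ne_zero hs (Subtype.ext h0)
  · intro z
    obtain ⟨⟨a, s⟩, hs⟩ := IsLocalization.surj (nonZeroDivisors A) z
    refine ⟨⟨⟨ι' a, range_le_stalk K q a⟩, ⟨⟨ι' (s : A), range_le_stalk K q s⟩, mem_nonZeroDivisors_of_ne_zero fun h0 => ?_⟩⟩, hs⟩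
    exact algebraMap_ne K (nonZeroDivisors.ne_zero s.2) (congrArg Subtype.val h0)
  · intro a b hab
    exact ⟨1, by rw [show a = b from Subtype.ext hab]⟩

theorem exists_of_mem_stalk {q : Ideal (chart K x y)} [q.IsPrime] {z : K} (hz : z ∈ stalk K q) :
    ∃ b s : chart K x y, s ∉ q ∧ z * (s : K) = b := by
  obtain ⟨⟨b, s⟩, hbs⟩ := IsLocalization.surj q.primeCompl (⟨z, hz⟩ : stalk K q)
  exact ⟨b, s, s.2, congrArg Subtype.val hbs⟩

theorem stalk_le_of_le (h : Params x y) {q : Ideal (chart K x y)} [q.IsPrime] {V : ValuationSubring K}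
    (hV : (chart K x y : Set K) ∪ {z | ∃ s : chart K x y, s ∉ q ∧ z = (s : K)⁻¹} ⊆ (V : Set K)) :
    (stalk K q : Set K) ⊆ (V : Set K) := by
  intro z hz
  obtain ⟨b, s, hs, e⟩ := exists_of_mem_stalk K hz
  have hs0 : (s : K) ≠ 0 := fun h0 => hs (by rw [show s = 0 from Subtype.ext h0]; exact zero_mem _)
  rw [show z = (b : K) * (s : K)⁻¹ by rw [← e, mul_assoc, mul_inv_cancel₀ hs0, mul_one]]
  exact V.mul_mem _ _ (hV (Or.inl b.2)) (hV (Or.inr ⟨s, hs, rfl⟩))

theorem mem_nonunits_stalk (h : Params x y) {q : Ideal (chart K x y)} [q.IsPrime]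
    (hq : toChart K (x := x) (y := y) x ∈ q) {a : A} (ha : a ∈ maximalIdeal A) :
    (⟨ι' a, range_le_stalk K q a⟩ : stalk K q) ∈ maximalIdeal (stalk K q) := by
  have h1 : toChart K (x := x) (y := y) a ∈ q :=
    ((Ideal.span_singleton_le_iff_mem _).2 hq) ((map_maximalIdeal_chart K h).ge (Ideal.mem_map_of_mem _ ha))
  have h2 := (IsLocalization.AtPrime.to_map_mem_maximal_iff (stalk K q) q _).2 h1
  have e : algebraMap (chart K x y) (stalk K q) (toChart K (x := x) (y := y) a) = ⟨ι' a, range_le_stalk K q a⟩ :=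
    Subtype.ext (coe_toChart K a)
  rwa [e] at h2

omit [IsRegularLocalRing A] in
theorem exists_pow_le [IsLocalRing A] [IsNoetherianRing A] {I : Ideal A} (hI : Module.length A (A ⧸ I) ≠ ⊤) :
    ∃ N, maximalIdeal A ^ N ≤ I := by
  have := Module.length_ne_top_iff.1 hI
  haveI : IsArtinian A (A ⧸ I) := (isFiniteLength_iff_isNoetherian_isArtinian.1 this).2
  obtain ⟨n, hn⟩ := IsArtinian.monotone_stabilizes (M := A ⧸ I)
    ⟨fun n => OrderDual.toDual (Submodule.map I.mkQ (maximalIdeal A ^ n)),
      fun i j hij => Submodule.map_mono (Ideal.pow_le_pow_right hij)⟩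
  have h1 : Submodule.map I.mkQ (maximalIdeal A ^ n) = Submodule.map I.mkQ (maximalIdeal A ^ (n + 1)) :=
    hn (n + 1) (Nat.le_succ n)
  have h2 := congrArg (Submodule.comap I.mkQ) h1
  rw [Submodule.comap_map_mkQ, Submodule.comap_map_mkQ] at h2
  refine ⟨n, Submodule.le_of_le_smul_of_le_jacobson_bot (I := maximalIdeal A) (IsNoetherian.noetherian _)
    (maximalIdeal_le_jacobson _) ?_⟩
  refine le_sup_right.trans (h2.le.trans (sup_le_sup_left ?_ _))
  rw [smul_eq_mul, pow_succ']

/-- The colength of the transform of `(a, b)` at a point of the exceptional divisor drops. -/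
theorem exists_transform (hA : ringKrullDim A = 2) (h : Params x y) (q : Ideal (chart K x y)) [q.IsPrime]
    (hq : toChart K (x := x) (y := y) x ∈ q) (a b : A)
    (hfin : Module.length A (A ⧸ Ideal.span {a, b}) ≠ ⊤) (hab : Ideal.span {a, b} ≠ ⊤) :
    ∃ a' b' : stalk K q, (a' : K) / (b' : K) = ι' a / ι' b ∧ (b ≠ 0 → (b' : K) ≠ 0) ∧
      Module.length (stalk K q) (stalk K q ⧸ Ideal.span {a', b'}) < Module.length A (A ⧸ Ideal.span {a, b}) := by
  classical
  haveI := RegLoc6.isDomain_of_isRegularLocalRing A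
  obtain ⟨N, hN⟩ := exists_pow_le hfin
  set I := Ideal.span {a, b} with hIdef
  have hIm : I ≤ maximalIdeal A := le_maximalIdeal hab
  have hex : ∃ n, ¬ (a ∈ maximalIdeal A ^ (n + 1) ∧ b ∈ maximalIdeal A ^ (n + 1)) := by
    by_contra hne
    push Not at hne
    have h0 : ∀ z : A, (∀ n, z ∈ maximalIdeal A ^ (n + 1)) → z = 0 := fun z hz => by
      refine (Submodule.mem_bot A).1 ((Ideal.iInf_pow_eq_bot_of_isLocalRing (maximalIdeal A) (Ideal.IsPrime.ne_top inferInstance)).le ?_)
      exact (Submodule.mem_iInf _).2 fun n => Ideal.pow_le_pow_right (Nat.le_succ n) (hz n)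
    have hI0 : I = ⊥ := by
      rw [hIdef, h0 a fun n => (hne n).1, h0 b fun n => (hne n).2]
      simp
    have hx0 : x ^ N ∈ I := hN (Ideal.pow_mem_pow h.xmem N)
    rw [hI0, Ideal.mem_bot] at hx0
    exact h.xne (pow_eq_zero_iff'.1 hx0).1
  set r := Nat.find hex with hrdef
  have hr' : ¬ (a ∈ maximalIdeal A ^ (r + 1) ∧ b ∈ maximalIdeal A ^ (r + 1)) := Nat.find_spec hex
  have har : a ∈ maximalIdeal A ^ r ∧ b ∈ maximalIdeal A ^ r ∧ 1 ≤ r := by
    have h1 : a ∈ maximalIdeal A := hIm (Ideal.subset_span (Set.mem_insert _ _))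
    have h2 : b ∈ maximalIdeal A := hIm (Ideal.subset_span (Set.mem_insert_of_mem _ rfl))
    have hr0 : 1 ≤ r := by
      by_contra hc
      exact hr' (by rw [show r = 0 by omega, zero_add, pow_one]; exact ⟨h1, h2⟩)
    obtain ⟨k, hk⟩ := Nat.exists_eq_add_of_le hr0
    have := not_not.1 (Nat.find_min hex (m := k) (by omega))
    rw [hk, add_comm 1 k]
    exact ⟨this.1, this.2, by omega⟩
  obtain ⟨ha, hb, hr1⟩ := har
  let B := chart K x y
  letI : Algebra A B := (toChart K (x := x) (y := y)).toAlgebra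
  letI : Algebra A (stalk K q) := ((algebraMap B (stalk K q)).comp (toChart K (x := x) (y := y))).toAlgebra
  haveI : IsScalarTower A B (stalk K q) := IsScalarTower.of_algebraMap_eq fun _ => rfl
  have hX : ι' x ^ r ≠ 0 := pow_ne_zero r (algebraMap_ne K h.xne)
  have hdiv : ∀ t : A, t ∈ maximalIdeal A ^ r → ι' t / ι' x ^ r ∈ B := fun t ht => by
    obtain ⟨B₁, hB₁, e₁⟩ := (mem_pow_iff K h r t).1 ht
    rwa [show ι' t / ι' x ^ r = B₁ from by rw [div_eq_iff hX, e₁, mul_comm]]
  let aB : B := ⟨_, hdiv a ha⟩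
  let bB : B := ⟨_, hdiv b hb⟩
  let I' : Ideal B := Ideal.span {aB, bB}
  let d : ↥(maximalIdeal A ^ r) →ₗ[A] B :=
    { toFun := fun t => ⟨_, hdiv t.1 t.2⟩
      map_add' := fun s t => Subtype.ext (by
        show ι' ((s : A) + t) / _ = _ + _
        rw [map_add, add_div])
      map_smul' := fun c t => Subtype.ext (by
        show ι' (c * t) / _ = ((toChart K (x := x) (y := y) c : B) : K) * _
        rw [map_mul, coe_toChart, mul_div_assoc]) }
  let φ : ↥(maximalIdeal A ^ r) →ₗ[A] B ⧸ I' := (Ideal.Quotient.mkₐ A I').toLinearMap.comp d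
  have hφ : Function.Surjective φ := by
    intro w
    obtain ⟨w, rfl⟩ := Ideal.Quotient.mk_surjective w
    have hr'' : a ∉ maximalIdeal A ^ (r + 1) ∨ b ∉ maximalIdeal A ^ (r + 1) := not_and_or.1 hr'
    obtain ⟨c, hc, p, hp, s, hs, e⟩ := exists_congr K hA h ha hb hr'' hN (w : K) w.2
    refine ⟨⟨c, hc⟩, ?_⟩
    show Ideal.Quotient.mk I' _ = Ideal.Quotient.mk I' w
    rw [eq_comm, Ideal.Quotient.eq]
    show w - (⟨_, hdiv c hc⟩ : B) ∈ I'
    rw [show w - (⟨_, hdiv c hc⟩ : B) = aB * ⟨p, hp⟩ + bB * ⟨s, hs⟩ from Subtype.ext (by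
      show (w : K) - ι' c / ι' x ^ r = ι' a / ι' x ^ r * p + ι' b / ι' x ^ r * s
      rw [e]; ring)]
    exact Ideal.add_mem _ (Ideal.mul_mem_right _ _ (Ideal.subset_span (Set.mem_insert _ _)))
      (Ideal.mul_mem_right _ _ (Ideal.subset_span (Set.mem_insert_of_mem _ rfl)))
  let mI : ↥(maximalIdeal A ^ r) →ₗ[A] A ⧸ I := I.mkQ.comp (Submodule.subtype _)
  have hker : LinearMap.ker mI ≤ LinearMap.ker φ := by
    rintro ⟨t, ht⟩ hmem
    have htI : t ∈ I := (Submodule.Quotient.mk_eq_zero I).1 hmem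
    obtain ⟨p, s, hps⟩ := Ideal.mem_span_pair.1 htI
    refine LinearMap.mem_ker.2 (Ideal.Quotient.eq_zero_iff_mem.2 ?_)
    rw [show d ⟨t, ht⟩ = toChart K (x := x) (y := y) p * aB + toChart K (x := x) (y := y) s * bB from Subtype.ext (by
      show ι' t / ι' x ^ r = ((toChart K (x := x) (y := y) p : B) : K) * (ι' a / ι' x ^ r) +
        ((toChart K (x := x) (y := y) s : B) : K) * (ι' b / ι' x ^ r)
      rw [coe_toChart, coe_toChart, ← hps, map_add, map_mul, map_mul]; ring)]
    exact Ideal.add_mem _ (Ideal.mul_mem_left _ _ (Ideal.subset_span (Set.mem_insert _ _)))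
      (Ideal.mul_mem_left _ _ (Ideal.subset_span (Set.mem_insert_of_mem _ rfl)))
  haveI := (isFiniteLength_iff_isNoetherian_isArtinian.1 (Module.length_ne_top_iff.1 hfin)).2
  have h1 : Module.length A (B ⧸ I') < Module.length A (A ⧸ I) := by
    refine (Module.length_le_of_surjective (Submodule.liftQ _ φ hker) fun w => ?_).trans_lt ?_
    · obtain ⟨t, ht⟩ := hφ w
      exact ⟨Submodule.Quotient.mk t, ht⟩
    · rw [(LinearMap.quotKerEquivRange mI).length_eq]
      refine Submodule.length_lt fun htop => hab ?_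
      obtain ⟨⟨t, ht⟩, htt⟩ := (htop.ge Submodule.mem_top : Submodule.Quotient.mk (1 : A) ∈ LinearMap.range mI)
      refine (Ideal.eq_top_iff_one _).2 ?_
      have h2 : t - 1 ∈ I := (Submodule.Quotient.eq I).1 htt
      by_contra h1
      refine h1 ?_
      have htm : t ∈ maximalIdeal A := Ideal.pow_le_self (by omega) ht
      exfalso
      have : (1 : A) ∈ maximalIdeal A := by
        have := Ideal.sub_mem _ htm (hIm h2)
        rwa [sub_sub_cancel] at this
      exact (maximalIdeal.isMaximal A).ne_top ((Ideal.eq_top_iff_one _).2 this)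
  -- localise
  let j := algebraMap B (stalk K q)
  refine ⟨j aB, j bB, ?_, fun hb0 => div_ne_zero (algebraMap_ne K hb0) hX, ?_⟩
  · show (ι' a / ι' x ^ r) / (ι' b / ι' x ^ r) = _
    rw [div_div_div_cancel_right₀ hX]
  let I₁ : Ideal (stalk K q) := Ideal.span {j aB, j bB}
  have hI₁ : I' ≤ I₁.comap j := Ideal.span_le.2 (by
    rintro z (rfl | rfl)
    · exact Ideal.subset_span (Set.mem_insert _ _)
    · exact Ideal.subset_span (Set.mem_insert_of_mem _ rfl))
  let θ : B ⧸ I' →ₗ[A] stalk K q ⧸ I₁ :=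
    (Ideal.quotientMapₐ I₁ (IsScalarTower.toAlgHom A B (stalk K q)) hI₁).toLinearMap
  have hBfin : Module.length A (B ⧸ I') ≠ ⊤ := ne_top_of_lt h1
  haveI := (isFiniteLength_iff_isNoetherian_isArtinian.1 (Module.length_ne_top_iff.1 hBfin)).2
  haveI : IsArtinian B (B ⧸ I') := isArtinian_of_tower A inferInstance
  have hθ : Function.Surjective θ := by
    intro w
    obtain ⟨w, rfl⟩ := Ideal.Quotient.mk_surjective w
    obtain ⟨⟨z, s⟩, hzs⟩ := IsLocalization.surj q.primeCompl w
    obtain ⟨n, e, hn⟩ := IsArtinian.exists_pow_succ_smul_dvd (s : B) (1 : B ⧸ I')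
    obtain ⟨e, rfl⟩ := Ideal.Quotient.mk_surjective e
    have hn' : (s : B) ^ n.succ * e - (s : B) ^ n * 1 ∈ I' := by
      rw [← Ideal.Quotient.eq]
      exact hn
    refine ⟨Ideal.Quotient.mk I' (z * e), ?_⟩
    show Ideal.Quotient.mk I₁ (j (z * e)) = Ideal.Quotient.mk I₁ w
    have hu : IsUnit (j (s : B)) := IsLocalization.map_units (stalk K q) s
    have h3 : j (s : B) * j e - 1 ∈ I₁ := by
      refine (Ideal.unit_mul_mem_iff_mem I₁ (hu.pow n)).1 ?_
      have h4 : j ((s : B) ^ n.succ * e - (s : B) ^ n * 1) ∈ I₁ := hI₁ hn'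
      rw [map_sub, map_mul, map_mul, map_one, map_pow, map_pow, pow_succ, mul_assoc, ← mul_sub] at h4
      exact h4
    rw [Ideal.Quotient.eq, map_mul, show j z = w * j (s : B) from hzs.symm, mul_assoc,
      show w * (j (s : B) * j e) - w = w * (j (s : B) * j e - 1) by ring]
    exact Ideal.mul_mem_left _ _ h3
  refine lt_of_le_of_lt ?_ h1
  refine le_trans ?_ (Module.length_le_of_surjective θ hθ)
  have := Submodule.length_le_length_restrictScalars A (⊤ : Submodule (stalk K q) (stalk K q ⧸ I₁))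
  rwa [Submodule.restrictScalars_top, Module.length_top, Module.length_top] at this

end Groth.Agent.RatSingReg
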