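import Mathlib.RingTheory.Valuation.LocalSubring
import Mathlib.RingTheory.Polynomial.ScaleRoots

/-! Splitting "principal parts" `φ : V ↦ φ V` over all valuation rings of a field containing given
sets: compactness and gluing. -/

noncomputable section

set_option linter.style.haveILetI false
set_option linter.unusedSectionVars false

universe u

open Polynomial

namespace Groth.Agent.RatSingReg

variable {K : Type u} [Field K]

/-- The principal parts `φ` can be split over all valuation rings containing `s`. -/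
def Solv (φ : ValuationSubring K → K) (s : Set K) : Prop :=
  ∃ g : K, ∀ V : ValuationSubring K, s ⊆ (V : Set K) → g + φ V ∈ V

theorem Solv.mono {φ : ValuationSubring K → K} {s t : Set K} (h : Solv φ s)
    (hst : ∀ V : ValuationSubring K, t ⊆ (V : Set K) → s ⊆ (V : Set K)) : Solv φ t :=
  h.imp fun _ hg V hV => hg V (hst V hV)

theorem mem_of_monic_root (V : ValuationSubring K) (p : K[X]) (hp : p.Monic) {x : K} (hx : p.IsRoot x)
    (hc : ∀ i, p.coeff i ∈ V) : x ∈ V := by
  have hl : p ∈ lifts (algebraMap V K) := (lifts_iff_coeff_lifts p).2 fun i => ⟨⟨_, hc i⟩, rfl⟩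
  obtain ⟨q, hq, -, hqm⟩ := lifts_and_degree_eq_and_monic hl hp
  have hint : IsIntegral V x := ⟨q, hqm, by rw [← eval_map, hq]; exact hx⟩
  obtain ⟨y, hy⟩ := IsIntegrallyClosedIn.algebraMap_eq_of_integral hint
  rw [← hy]
  exact y.2

theorem exists_monic_root {s : Set K} {x : K}
    (h : ∀ V : ValuationSubring K, s ⊆ (V : Set K) → x ∈ V) :
    ∃ p : K[X], p.Monic ∧ p.IsRoot x ∧ ∀ i, p.coeff i ∈ Subring.closure s := by
  have hx : x ∈ (integralClosure (Subring.closure s) K).toSubring := by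
    rw [← iInf_valuationSubring_superset, Subring.mem_iInf]
    exact fun V => h V.1 V.2
  obtain ⟨q, hqm, hq⟩ := hx
  refine ⟨q.map (algebraMap _ K), hqm.map _, ?_, fun i => ?_⟩
  · show eval x _ = 0
    rw [eval_map]
    exact hq
  · rw [coeff_map]
    exact (q.coeff i).2

/-- Compactness. -/
theorem exists_finset {s : Set K} {x : K} (h : ∀ V : ValuationSubring K, s ⊆ (V : Set K) → x ∈ V) :
    ∃ t : Finset K, ↑t ⊆ s ∧ ∀ V : ValuationSubring K, ↑t ⊆ (V : Set K) → x ∈ V := by
  classical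
  obtain ⟨p, hp, hx, hc⟩ := exists_monic_root h
  have hfin : ∀ c ∈ Subring.closure s, ∃ t : Finset K, ↑t ⊆ s ∧
      ∀ V : ValuationSubring K, ↑t ⊆ (V : Set K) → c ∈ V := by
    intro c hc
    induction hc using Subring.closure_induction with
    | mem c hc => exact ⟨{c}, by simpa using hc, fun V hV => hV (Finset.mem_singleton_self c)⟩
    | zero => exact ⟨∅, by simp, fun V _ => V.zero_mem⟩
    | one => exact ⟨∅, by simp, fun V _ => V.one_mem⟩
    | neg c _ hc => exact hc.imp fun t ht => ⟨ht.1, fun V hV => V.neg_mem _ (ht.2 V hV)⟩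
    | add c d _ _ hc hd =>
      obtain ⟨t, ht, htV⟩ := hc
      obtain ⟨t', ht', htV'⟩ := hd
      refine ⟨t ∪ t', by simp [ht, ht'], fun V hV => ?_⟩
      rw [Finset.coe_union, Set.union_subset_iff] at hV
      exact V.add_mem _ _ (htV V hV.1) (htV' V hV.2)
    | mul c d _ _ hc hd =>
      obtain ⟨t, ht, htV⟩ := hc
      obtain ⟨t', ht', htV'⟩ := hd
      refine ⟨t ∪ t', by simp [ht, ht'], fun V hV => ?_⟩
      rw [Finset.coe_union, Set.union_subset_iff] at hV
      exact V.mul_mem _ _ (htV V hV.1) (htV' V hV.2)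
  choose t ht htV using fun i => hfin (p.coeff i) (hc i)
  refine ⟨(Finset.range (p.natDegree + 1)).biUnion t, by simp [ht], fun V hV => ?_⟩
  refine mem_of_monic_root V p hp hx fun i => ?_
  by_cases hi : i ≤ p.natDegree
  · refine htV i V fun z hz => hV ?_
    exact Finset.mem_biUnion.2 ⟨i, Finset.mem_range.2 (Nat.lt_succ_of_le hi), hz⟩
  · rw [coeff_eq_zero_of_natDegree_lt (not_le.1 hi)]
    exact V.zero_mem

/-- An element contained in every valuation ring containing `B` and `h⁻¹` becomes, after multiplication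
by a power of `h`, contained in every valuation ring containing `B`. -/
theorem exists_pow_mul {B : Set K} {h x : K} (hB : h ∈ B) (hh : h ≠ 0)
    (hx : ∀ V : ValuationSubring K, B ⊆ (V : Set K) → h⁻¹ ∈ V → x ∈ V) :
    ∃ m : ℕ, ∀ V : ValuationSubring K, B ⊆ (V : Set K) → h ^ m * x ∈ V := by
  classical
  obtain ⟨p, hp, hroot, hc⟩ := exists_monic_root (s := B ∪ {h⁻¹}) (x := x)
    fun V hV => hx V ((Set.subset_union_left).trans hV) (hV (Set.mem_union_right _ rfl))
  have up : ∀ {c : K} {m n : ℕ}, m ≤ n → (∀ V : ValuationSubring K, B ⊆ (V : Set K) → h ^ m * c ∈ V) →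
      ∀ V : ValuationSubring K, B ⊆ (V : Set K) → h ^ n * c ∈ V := fun {c m n} hmn hm V hV => by
    obtain ⟨k, rfl⟩ := Nat.exists_eq_add_of_le hmn
    rw [pow_add, mul_comm (h ^ m), mul_assoc]
    exact V.mul_mem _ _ (pow_mem (show h ∈ V from hV hB) k) (hm V hV)
  have hcl : ∀ c ∈ Subring.closure (B ∪ {h⁻¹}),
      ∃ m : ℕ, ∀ V : ValuationSubring K, B ⊆ (V : Set K) → h ^ m * c ∈ V := by
    intro c hc
    induction hc using Subring.closure_induction with
    | mem c hc =>
      rcases hc with hc | rfl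
      · exact ⟨0, fun V hV => by rw [pow_zero, one_mul]; exact hV hc⟩
      · exact ⟨1, fun V _ => by rw [pow_one, mul_inv_cancel₀ hh]; exact V.one_mem⟩
    | zero => exact ⟨0, fun V _ => by rw [mul_zero]; exact V.zero_mem⟩
    | one => exact ⟨0, fun V _ => by rw [pow_zero, mul_one]; exact V.one_mem⟩
    | neg c _ hc => exact hc.imp fun m hm V hV => by rw [mul_neg]; exact V.neg_mem _ (hm V hV)
    | add c d _ _ hc hd =>
      obtain ⟨m, hm⟩ := hc
      obtain ⟨n, hn⟩ := hd
      refine ⟨max m n, fun V hV => ?_⟩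
      rw [mul_add]
      exact V.add_mem _ _ (up (le_max_left m n) hm V hV) (up (le_max_right m n) hn V hV)
    | mul c d _ _ hc hd =>
      obtain ⟨m, hm⟩ := hc
      obtain ⟨n, hn⟩ := hd
      refine ⟨m + n, fun V hV => ?_⟩
      rw [pow_add, mul_mul_mul_comm]
      exact V.mul_mem _ _ (hm V hV) (hn V hV)
  choose m hm using fun i => hcl (p.coeff i) (hc i)
  refine ⟨(Finset.range (p.natDegree + 1)).sup m, fun V hV => ?_⟩
  set N := (Finset.range (p.natDegree + 1)).sup m with hN
  refine mem_of_monic_root V (p.scaleRoots (h ^ N)) ((monic_scaleRoots_iff _).2 hp) ?_ fun i => ?_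
  · exact scaleRoots_aeval_eq_zero (A := K) hroot
  · rw [coeff_scaleRoots]
    rcases lt_trichotomy i p.natDegree with hi | rfl | hi
    · obtain ⟨k, hk⟩ : ∃ k, p.natDegree - i = k + 1 := ⟨p.natDegree - i - 1, by omega⟩
      rw [hk, pow_succ, mul_comm ((h ^ N) ^ k), ← mul_assoc, mul_comm (p.coeff i)]
      exact V.mul_mem _ _ (up (Finset.le_sup (Finset.mem_range.2 (by omega))) (hm i) V hV)
        (pow_mem (pow_mem (show h ∈ V from hV hB) N) k)
    · rw [Nat.sub_self, pow_zero, mul_one, hp.coeff_natDegree]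
      exact V.one_mem
    · rw [coeff_eq_zero_of_natDegree_lt hi, zero_mul]
      exact V.zero_mem

variable {φ : ValuationSubring K → K} {ι : Type u} [Finite ι] {R : ι → Finset K} {a : ι → K}

/-- Gluing of splittings over a covering of `Spec B` by principal opens. -/
theorem solv_of_local (B : Subring K)
    (hloc : ∀ q : Ideal B, q.IsPrime → ∃ h : B, h ∉ q ∧ Solv φ ((B : Set K) ∪ {(h : K)⁻¹})) :
    Solv φ (B : Set K) := by
  classical
  have htop : Ideal.span {h : B | Solv φ ((B : Set K) ∪ {(h : K)⁻¹})} = ⊤ := by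
    by_contra hne
    obtain ⟨M, hM, hle⟩ := Ideal.exists_le_maximal _ hne
    obtain ⟨h, hh, hs⟩ := hloc M hM.isPrime
    exact hh (hle (Ideal.subset_span hs))
  obtain ⟨T, hT, hTtop⟩ := (Ideal.span_eq_top_iff_finite _).1 htop
  -- discard zero generators
  let T' := T.filter fun h : B => (h : K) ≠ 0
  have hT'top : Ideal.span (T' : Set B) = ⊤ := by
    refine top_le_iff.1 (hTtop.ge.trans (Ideal.span_le.2 fun h hh => ?_))
    by_cases h0 : (h : K) = 0
    · rw [show h = 0 from Subtype.ext h0]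
      exact zero_mem _
    · exact Ideal.subset_span (Finset.mem_filter.2 ⟨hh, h0⟩)
  have hsolv : ∀ h : T', Solv φ ((B : Set K) ∪ {((h : B) : K)⁻¹}) := fun h => hT (Finset.mem_filter.1 h.2).1
  choose g hg using hsolv
  have hne : ∀ h : T', ((h : B) : K) ≠ 0 := fun h => (Finset.mem_filter.1 h.2).2
  have hdiff : ∀ h h' : T', ∃ m : ℕ, ∀ V : ValuationSubring K, (B : Set K) ⊆ (V : Set K) →
      (((h : B) : K) * ((h' : B) : K)) ^ m * (g h - g h') ∈ V := by
    intro h h'
    refine exists_pow_mul (B := (B : Set K)) (B.mul_mem (h : B).2 (h' : B).2) (mul_ne_zero (hne h) (hne h'))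
      fun V hV hinv => ?_
    have key : ∀ u v : T', (((u : B) : K) * ((v : B) : K))⁻¹ ∈ V → ((u : B) : K)⁻¹ ∈ V := fun u v huv => by
      have e : ((u : B) : K)⁻¹ = ((v : B) : K) * (((u : B) : K) * ((v : B) : K))⁻¹ := by
        field_simp [hne u, hne v]
      rw [e]
      exact V.mul_mem _ _ (hV (v : B).2) huv
    have h1 := hg h V (Set.union_subset hV (Set.singleton_subset_iff.2 (key h h' hinv)))
    have h2 := hg h' V (Set.union_subset hV (Set.singleton_subset_iff.2 (key h' h (by rwa [mul_comm]))))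
    rw [show g h - g h' = (g h + φ V) - (g h' + φ V) by ring]
    exact sub_mem h1 h2
  choose m hm using hdiff
  obtain ⟨N, hN0, hN⟩ : ∃ N, 0 < N ∧ ∀ h h', m h h' ≤ N :=
    ⟨(Finset.univ.sup fun h => Finset.univ.sup (m h)) + 1, Nat.succ_pos _, fun h h' =>
      ((Finset.le_sup (f := m h) (Finset.mem_univ h')).trans
        (Finset.le_sup (f := fun h => Finset.univ.sup (m h)) (Finset.mem_univ h))).trans (Nat.le_succ _)⟩
  have hpow : Ideal.span (Set.range fun h : T' => (h : B) ^ N) = ⊤ := by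
    refine top_le_iff.1 ((Ideal.span_pow_eq_top _ hT'top N).ge.trans (Ideal.span_le.2 ?_))
    rintro _ ⟨h, hh, rfl⟩
    exact Ideal.subset_span ⟨⟨h, hh⟩, rfl⟩
  obtain ⟨c, hc⟩ := (Ideal.mem_span_range_iff_exists_fun.1 (hpow.ge (Submodule.mem_top (x := (1 : B)))))
  refine ⟨∑ h : T', (c h : K) * ((h : B) : K) ^ N * g h, fun V hV => ?_⟩
  obtain ⟨h₀, hh₀⟩ : ∃ h : T', ((h : B) : K)⁻¹ ∈ V := by
    by_contra hne'
    push Not at hne'
    refine one_ne_zero (α := IsLocalRing.ResidueField V) ?_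
    have hmem : ∀ h : T', (⟨((h : B) : K), hV (h : B).2⟩ : V) ∈ IsLocalRing.maximalIdeal V := fun h => by
      rw [IsLocalRing.mem_maximalIdeal, mem_nonunits_iff]
      rintro ⟨w, hw⟩
      refine hne' h ?_
      have h1 : ((w : V) : K) = ((h : B) : K) := congrArg Subtype.val hw
      rw [← h1, show ((w : V) : K)⁻¹ = ((↑w⁻¹ : V) : K) from inv_eq_of_mul_eq_one_right (congrArg Subtype.val w.mul_inv)]
      exact Subtype.property _
    rw [← map_one (IsLocalRing.residue V), IsLocalRing.residue_eq_zero_iff]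
    let ιV : B →+* V := { toFun := fun b => ⟨b, hV b.2⟩, map_one' := rfl, map_mul' := fun _ _ => rfl, map_zero' := rfl, map_add' := fun _ _ => rfl }
    rw [← map_one ιV, ← hc, map_sum]
    refine sum_mem fun h _ => ?_
    rw [map_mul, map_pow]
    exact Ideal.mul_mem_left _ _ (Ideal.pow_mem_of_mem _ (hmem h) N hN0)
  have hone : ∑ h : T', (c h : K) * ((h : B) : K) ^ N = 1 := by
    have := congrArg (fun b : B => (b : K)) hc
    simpa using this
  have hrw : ∑ h : T', (c h : K) * ((h : B) : K) ^ N * g h + φ V =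
      (g h₀ + φ V) + ∑ h : T', (c h : K) * ((h : B) : K) ^ N * (g h - g h₀) := by
    simp only [mul_sub, Finset.sum_sub_distrib, ← Finset.sum_mul, hone, one_mul]
    ring
  rw [hrw]
  refine V.add_mem _ _ (hg h₀ V (Set.union_subset hV (Set.singleton_subset_iff.2 hh₀))) ?_
  refine sum_mem fun h _ => ?_
  rw [mul_assoc]
  refine V.mul_mem _ _ (hV (c h).2) ?_
  have h1 := hm h h₀ V hV
  obtain ⟨k, hk⟩ := Nat.exists_eq_add_of_le (hN h h₀)
  have e : ((h : B) : K) ^ N * (g h - g h₀) = ((h : B) : K) ^ k * (((h₀ : B) : K)⁻¹) ^ m h h₀ *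
      ((((h : B) : K) * ((h₀ : B) : K)) ^ m h h₀ * (g h - g h₀)) := by
    rw [hk, pow_add, mul_pow, inv_pow]
    field_simp [hne h₀]
  rw [e]
  exact V.mul_mem _ _ (V.mul_mem _ _ (pow_mem (show ((h : B) : K) ∈ V from hV (h : B).2) k) (pow_mem hh₀ _)) h1

/-- Spreading out a splitting from the local ring at a prime to a principal neighbourhood. -/
theorem exists_nhd (A : Set K)
    (hφ : ∀ (V : ValuationSubring K) i, A ⊆ (V : Set K) → (R i : Set K) ⊆ (V : Set K) → φ V - a i ∈ V)
    (hcov : ∀ V : ValuationSubring K, A ⊆ (V : Set K) → ∃ i, (R i : Set K) ⊆ V)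
    (B : Subring K) (hAB : A ⊆ B) (q : Ideal B) [q.IsPrime]
    (h : Solv φ ((B : Set K) ∪ {z | ∃ s : B, s ∉ q ∧ z = (s : K)⁻¹})) :
    ∃ h : B, h ∉ q ∧ Solv φ ((B : Set K) ∪ {(h : K)⁻¹}) := by
  classical
  haveI := Fintype.ofFinite ι
  obtain ⟨g, hg⟩ := h
  have key : ∀ i, ∃ t : Finset K, ↑t ⊆ ((B : Set K) ∪ {z | ∃ s : B, s ∉ q ∧ z = (s : K)⁻¹}) ∪ (R i : Set K) ∧
      ∀ V : ValuationSubring K, ↑t ⊆ (V : Set K) → g + a i ∈ V := fun i => exists_finset fun V hV => by
    have h1 := hφ V i (hAB.trans (Set.subset_union_left.trans (Set.subset_union_left.trans hV)))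
      (Set.subset_union_right.trans hV)
    have h2 := hg V (Set.subset_union_left.trans hV)
    rw [show g + a i = (g + φ V) - (φ V - a i) by ring]
    exact sub_mem h2 h1
  choose t ht htV using key
  have hs : ∀ z : K, ∃ s : B, s ∉ q ∧ ((∃ s' : B, s' ∉ q ∧ z = (s' : K)⁻¹) → z = (s : K)⁻¹) := fun z => by
    by_cases h : ∃ s' : B, s' ∉ q ∧ z = (s' : K)⁻¹
    · obtain ⟨s', hs', e⟩ := h
      exact ⟨s', hs', fun _ => e⟩
    · exact ⟨1, fun h1 => Ideal.IsPrime.ne_top inferInstance ((Ideal.eq_top_iff_one q).2 h1), fun h' => absurd h' h⟩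
  choose s hsq hs using hs
  let T := Finset.univ.biUnion t
  refine ⟨∏ z ∈ T, s z, fun hmem => ?_, g, fun V hV => ?_⟩
  · obtain ⟨z, -, hz⟩ := (Ideal.IsPrime.prod_mem_iff).1 hmem
    exact hsq z hz
  obtain ⟨i, hi⟩ := hcov V (hAB.trans (Set.subset_union_left.trans hV))
  have h1 : g + a i ∈ V := htV i V fun z hz => by
    rcases ht i hz with (h | h) | h
    · exact hV (Or.inl h)
    · rw [hs z h]
      have hmem : z ∈ T := Finset.mem_biUnion.2 ⟨i, Finset.mem_univ i, hz⟩
      have hinv : (((∏ w ∈ T, s w : B)) : K)⁻¹ ∈ V := hV (Or.inr rfl)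
      rw [← Finset.mul_prod_erase T s hmem, Subring.coe_mul] at hinv
      by_cases h0 : ((∏ w ∈ T.erase z, s w : B) : K) = 0
      · exfalso
        obtain ⟨w, -, hw⟩ := Finset.prod_eq_zero_iff.1 (show (∏ w ∈ T.erase z, s w : B) = 0 from Subtype.ext h0)
        exact hsq w (by rw [hw]; exact zero_mem _)
      · rw [show ((s z : B) : K)⁻¹ = ((∏ w ∈ T.erase z, s w : B) : K) *
            (((s z : B) : K) * ((∏ w ∈ T.erase z, s w : B) : K))⁻¹ by
          rw [mul_inv, mul_left_comm, mul_inv_cancel₀ h0, mul_one]]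
        exact V.mul_mem _ _ (hV (Or.inl (Subtype.property _))) hinv
    · exact hi h
  rw [show g + φ V = (g + a i) + (φ V - a i) by ring]
  exact V.add_mem _ _ h1 (hφ V i (hAB.trans (Set.subset_union_left.trans hV)) hi)

end Groth.Agent.RatSingReg
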